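import Cfsg.Agent.HexRing.Lab4
import Cfsg.Agent.HexGrow.Defs

/-!
# The hypotheses of `exists_qRel`; the doubled root groups from `HexGrow.Grown`
-/

set_option autoImplicit false

namespace Cfsg.Agent.HexRing.Hyp

open Cfsg.Agent.HexRec Cfsg.Agent.HexRing.Def Cfsg.Agent.HexRing.Lab Cfsg.Agent.HexRing.Lab3 Cfsg.Agent.HexRing.Lab4
open Cfsg.Agent.Hex.Defs (CubicPair)
open Cfsg.Agent.StdRank2.Hex
open scoped commutatorElement

variable {F K : Type*} [Field F] [Field K] [Algebra F K]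

/-- the norm is not additive -/
theorem exists_N (C : Cubic F K) (hδ : (∃ l : F, l ^ 2 ≠ l) ∨ ∃ a b : K, C.cr a b ≠ 0) :
    ∃ k : K, C.N (k + 1) ≠ C.N k + 1 := by
  by_contra hcon
  push Not at hcon
  have h1 : ∀ k, C.T (C.sh k) 1 = C.T k 1 := fun k => by
    have h2 := C.N_add' k 1
    rw [hcon k, C.N_one, C.sh_one] at h2
    have h3 := C.two_F
    linear_combination (-1 : F) * h2 - C.T k 1 * h3
  rcases hδ with ⟨l, hl⟩ | ⟨a, b, hab⟩
  · have h2 := h1 (algebraMap F K l * 1)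
    rw [C.sh_mul, C.sh_map, C.sh_one, ← map_pow, ← Algebra.smul_def, ← Algebra.smul_def, C.T_smul_left,
      C.T_smul_left] at h2
    have h3 : C.T 1 1 = 1 := by unfold Cubic.T; rw [mul_one, C.tr_one]
    rw [h3, mul_one, mul_one] at h2
    exact hl h2
  · have h2 : ∀ a b, C.T (C.cr a b) 1 = 0 := fun a b => by
      have h3 := h1 (a + b)
      rw [C.sh_add', C.T_add_left, C.T_add_left, C.T_add_left, h1, h1] at h3
      linear_combination h3
    have h3 : ∀ b, C.cr b 1 = 0 := fun b => by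
      apply C.T_nondeg
      intro a
      rw [C.T_comm, ← C.T_cr, h2]
    apply hab
    by_cases ha : a = 0
    · rw [ha, C.cr_zero_left]
    · have h4 := C.cr_mul a 1 (b / a)
      rw [mul_one, mul_div_cancel₀ _ ha, C.cr_comm 1, h3, mul_zero] at h4
      exact h4

theorem exists_cr {φ : K ≃ₐ[F] K} (hφ : CubicPair φ) (h1 : ∃ a, φ a ≠ a) :
    ∃ a b : K, (OfPair.cubic hφ).cr a b ≠ 0 := by
  by_contra hcon
  push Not at hcon
  obtain ⟨a, ha⟩ := h1
  apply ha
  have h2 := hcon a 1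
  rw [OfPair.cubic_cr] at h2
  unfold Cfsg.Agent.Hex.Defs.cr at h2
  rw [map_one, map_one, mul_one, mul_one] at h2
  apply φ.injective
  linear_combination h2 - φ a * hφ.two

/-- doubled root groups from the growth -/
theorem vsys_of_grown {σ : K ≃+* K} {Γ : Type*} [Group Γ] {x : ZMod 12 → K → Γ} [Finite K] (h : HexTwo σ x) {t : Γ}
    {T : Subgroup Γ} {X : ZMod 12 → Subgroup Γ} {n : ZMod 12 → Γ} {V : ZMod 12 → Subgroup Γ}
    (hX : ∀ r g, g ∈ X r ↔ ∃ a, Ok σ r a ∧ g = x r a) (hT : h.H ≤ T) (hn : ∀ k, n k = nn x k)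
    (tx : ∀ r a, Ok σ r a → x r a * t = t * x r a) (S : HexGrow.Defs.Grown t T X n V) : VSys σ x t V where
  tx := tx
  le r a ha := S.le r ((hX r _).2 ⟨a, ha, rfl⟩)
  sq := S.sq
  br r y hy := (hX r _).1 (S.br r y hy)
  onto r a ha := S.onto r _ ((hX r _).2 ⟨a, ha, rfl⟩)
  fix r y hy e := (hX r _).1 (S.fix r y hy e)
  hV k s hs hok r y hy := S.TV _ (hT (h.hh_mem_H k hs hok)) r y hy
  nV k r y hy := by
    rw [← hn]
    exact S.nV k r y hy
  c1 := S.c1
  c3 := S.c3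
  l2 r hr := S.l2 r hr
  l4 r hr := S.l4 r hr
  s2 r hr := S.s2 r (by unfold HexGrow.Defs.Ev; omega)
  s4 r hr := S.s4 r (by unfold HexGrow.Defs.Ev; omega)
  c5 := S.c5
  nf := S.nf 1

end Cfsg.Agent.HexRing.Hyp
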