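import Cfsg.Agent.HexRing.Grp

/-!
# The ring of a grown hexagonal 2-group: units, torus
-/

set_option autoImplicit false
set_option linter.unusedSimpArgs false

namespace Cfsg.Agent.HexRing.Grp2

open Cfsg.Agent.HexRec Cfsg.Agent.HexRing.Def Cfsg.Agent.HexRing.Grp

variable {F K : Type*} [Field F] [Field K] [Algebra F K] {C : Cubic F K} {G : Type*} [Group G] (W : Pos C G)

/-! ### rank one -/

theorem E_sq : W.y6 (1, 0) * W.y6 (1, 0) = 1 := by rw [← W.add6, twoR (C := C), z6]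

/-- conjugation by `E = y6 (1, 0)` -/
def cE : G →* G := (MulAut.conj (W.y6 (1, 0))).toMonoidHom

theorem cE_apply (x : G) : cE W x = W.y6 (1, 0) * x * W.y6 (1, 0) := by
  unfold cE
  rw [MulEquiv.toMonoidHom_eq_coe, MonoidHom.coe_coe, MulAut.conj_apply, inv_eq_of_mul_eq_one_right (E_sq W)]

theorem cE_cE (x : G) : cE W (cE W x) = x := by
  rw [cE_apply, cE_apply]
  calc W.y6 (1, 0) * (W.y6 (1, 0) * x * W.y6 (1, 0)) * W.y6 (1, 0) =
      (W.y6 (1, 0) * W.y6 (1, 0)) * x * (W.y6 (1, 0) * W.y6 (1, 0)) := by group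
    _ = x := by rw [E_sq, one_mul, mul_one]

theorem cE_comm {x : G} (h : W.y6 (1, 0) * x = x * W.y6 (1, 0)) : cE W x = x := by
  rw [cE_apply, h, mul_assoc, E_sq, mul_one]

theorem cE2 (s) : cE W (W.y2 s) = W.y2 s * W.y4 (o W s (1, 0)) := by
  rw [cE_apply, q62, mul_assoc, mul_assoc, E_sq, mul_one]
theorem cE1 (a) : cE W (W.y1 a) = W.y1 a * (W.y2 (A W a (1, 0)) * (W.y3 (B W a (1, 0)) *
    (W.y4 (Gg W a (1, 0)) * W.y5 (D W a (1, 0))))) := by
  rw [cE_apply, q61]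
  simp only [mul_assoc]
  rw [E_sq, mul_one]
theorem cE3 (s) : cE W (W.y3 s) = W.y3 s := cE_comm W (W.r63 _ _)
theorem cE4 (s) : cE W (W.y4 s) = W.y4 s := cE_comm W (W.r64 _ _)
theorem cE5 (s) : cE W (W.y5 s) = W.y5 s := cE_comm W (W.r65 _ _)

/-- `nb = E (nb E nb) E` on elements -/
theorem cb_eq (x : G) : cb W x = cE W (cb W (cE W (cb W (cE W x)))) := by
  have h := W.rank1
  rw [cE_apply, cb_apply, cE_apply, cb_apply, cE_apply, cb_apply]
  calc W.nb * x * W.nb = (W.y6 (1, 0) * (W.nb * W.y6 (1, 0) * W.nb) * W.y6 (1, 0)) * x *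
      (W.y6 (1, 0) * (W.nb * W.y6 (1, 0) * W.nb) * W.y6 (1, 0)) := by rw [h]
    _ = _ := by group

theorem cb_cE_cb (x : G) : cb W (cE W (cb W (cE W x))) = cE W (cb W x) := by
  rw [cb_eq W x, cE_cE]

theorem o_oneR (s) : o W s (1, 0) = s := by
  have h := cb_cE_cb W (W.y2 s)
  simp only [cE2, cb2, cb4, cE4, map_mul] at h
  have h2 : W.y1 0 * (W.y3 0 * (W.y2 s * (W.y4 (o W s (1, 0)) * (W.y2 (o W (o W s (1, 0)) (1, 0)) *
      (W.y5 0 * W.y6 0))))) = W.y1 0 * (W.y2 0 * (W.y3 0 * (W.y4 s * (W.y5 0 * W.y6 0)))) := by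
    simp only [z1, z2, z3, z5, z6, one_mul, mul_one]
    simpa only [mul_assoc] using h
  simp only [r61, r51, r41, r31, r21, r32, r42, r52, r62, r43, r53, r63, r54, r64, r65, s1, s2, s3, s4, s5, s6] at h2
  exact (W.inj _ _ _ _ _ _ _ _ _ _ _ _ h2).2.2.2.1

theorem o_symm (s u) : o W s u = o W u s := by
  have h := congrArg (ca W) (q62 W u s)
  simp only [map_mul, ca2, ca6, ca4] at h
  -- `y2 u * y6 s = y6 s * (y4 (o s u) * y2 u)`
  have h2 : W.y6 s * (W.y2 u * (W.y4 (o W s u) * 1)) = W.y2 u * (W.y6 s * 1) := by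
    rw [mul_one, mul_one, h, W.r42]
  simp only [r61, r51, r41, r31, r21, r32, r42, r52, r62, r43, r53, r63, r54, r64, r65, s1, s2, s3, s4, s5, s6] at h2
  simp only [mul_one] at h2
  have h3 : W.y1 0 * (W.y2 u * (W.y3 0 * (W.y4 (o W u s + o W s u) * (W.y5 0 * W.y6 s)))) =
      W.y1 0 * (W.y2 u * (W.y3 0 * (W.y4 0 * (W.y5 0 * W.y6 s)))) := by
    simp only [z1, z3, z4, z5, one_mul, mul_one]
    exact h2
  have h4 := (W.inj _ _ _ _ _ _ _ _ _ _ _ _ h3).2.2.2.1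
  have h5 := twoR (C := C) (o W u s)
  linear_combination (norm := module) h4 - h5

theorem o_oneL (s) : o W (1, 0) s = s := by rw [o_symm, o_oneR]

theorem D_one (a) : D W a (1, 0) = a := by
  have h := cb_cE_cb W (W.y1 a)
  simp only [cE1, cb1, cb2, cb3, cb4, cb5, cE2, cE3, cE4, cE5, map_mul] at h
  have h2 := congrArg (· * W.y6 0) h
  simp only [mul_assoc, r61, r51, r41, r31, r21, r32, r42, r52, r62, r43, r53, r63, r54, r64, r65, s1, s2, s3, s4, s5, s6] at h2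
  have h3 : W.y5 a * W.y6 0 = W.y1 0 * (W.y2 0 * (W.y3 0 * (W.y4 0 * (W.y5 a * W.y6 0)))) := by
    simp only [z1, z2, z3, z4, one_mul]
  rw [h3] at h2
  exact (W.inj _ _ _ _ _ _ _ _ _ _ _ _ h2).2.2.2.2.1

/-! ### the torus and `t` -/

theorem tor (k : K) (l : F) (hk : k ≠ 0) (hl : l ≠ 0) : (∀ a b, T W (k • a) ((C.sh k * algebraMap F K l) • b) =
    (C.N k * l) • T W a b) ∧ (∀ a u, B W (k • a) (l • u) = (C.sh k * algebraMap F K l) • B W a u ∧
      Gg W (k • a) (l • u) = (C.N k * l ^ 2) • Gg W a u ∧ D W (k • a) (l • u) = (k * algebraMap F K l) • D W a u) := by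
  let f : G →* G := (MulAut.conj (W.h k l)).toMonoidHom
  have f1 : ∀ v, f (W.y1 v) = W.y1 (k • v) := W.h1 k l hk hl
  have f2 : ∀ v, f (W.y2 v) = W.y2 ((C.N k * l) • v) := W.h2 k l hk hl
  have f3 : ∀ v, f (W.y3 v) = W.y3 ((C.sh k * algebraMap F K l) • v) := W.h3 k l hk hl
  have f4 : ∀ v, f (W.y4 v) = W.y4 ((C.N k * l ^ 2) • v) := W.h4 k l hk hl
  have f5 : ∀ v, f (W.y5 v) = W.y5 ((k * algebraMap F K l) • v) := W.h5 k l hk hl
  have f6 : ∀ v, f (W.y6 v) = W.y6 (l • v) := W.h6 k l hk hl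
  refine ⟨fun a b => T_eq W f f1 f2 f3 a b, fun a u => ?_⟩
  have h := D_eq W f f1 f2 f3 f4 f5 f6 a u
  exact ⟨h.2.1, h.2.2.1, h.2.2.2⟩

/-- the action of `t` -/
def tt {k : Type*} [Add k] (v : k × k) : k × k := (v.1 + v.2, v.2)

theorem tor_t : (∀ a b, T W (tt a) (tt b) = tt (T W a b)) ∧ (∀ a b, o W (tt a) (tt b) = tt (o W a b)) ∧
    (∀ a u, B W (tt a) (tt u) = tt (B W a u) ∧ D W (tt a) (tt u) = tt (D W a u)) := by
  let f : G →* G := (MulAut.conj W.t).toMonoidHom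
  have f1 : ∀ v, f (W.y1 v) = W.y1 (tt v) := W.t1
  have f2 : ∀ v, f (W.y2 v) = W.y2 (tt v) := W.t2
  have f3 : ∀ v, f (W.y3 v) = W.y3 (tt v) := W.t3
  have f4 : ∀ v, f (W.y4 v) = W.y4 (tt v) := W.t4
  have f5 : ∀ v, f (W.y5 v) = W.y5 (tt v) := W.t5
  have f6 : ∀ v, f (W.y6 v) = W.y6 (tt v) := W.t6
  refine ⟨fun a b => T_eq W f f1 f2 f3 a b, fun a b => o_eq W f f2 f4 f6 a b, fun a u => ?_⟩
  have h := D_eq W f f1 f2 f3 f4 f5 f6 a u
  exact ⟨h.2.1, h.2.2.2⟩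

theorem T_FR (l : F) (a b : K × K) : T W a (algebraMap F K l • b) = l • T W a b := by
  by_cases hl : l = 0
  · rw [hl, map_zero, zero_smul, zero_smul, T_zeroR]
  have h := (tor W 1 l one_ne_zero hl).1 a b
  rwa [one_smul, C.sh_one, one_mul, C.N_one, one_mul] at h

theorem T_F (l : F) (a b : K × K) : T W (algebraMap F K l • a) b = l • T W a b := by
  rw [T_symm, T_FR, T_symm]

theorem T_K (k : K) (a b : K × K) : T W (k • a) b = T W a (k • b) := by
  by_cases hk : k = 0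
  · rw [hk, zero_smul, zero_smul, T_zeroL, T_zeroR]
  have hs := C.sh_ne_zero hk
  have h := (tor W k 1 hk one_ne_zero).1 a ((C.sh k)⁻¹ • b)
  rw [map_one, mul_one, smul_smul, mul_inv_cancel₀ hs, one_smul, mul_one, ← T_FR, smul_smul, C.N_map, mul_assoc,
    mul_inv_cancel₀ hs, mul_one] at h
  exact h

theorem D_smul (k : K) (l : F) (a : K × K) (u : F × F) : D W (k • a) (l • u) = (k * algebraMap F K l) • D W a u := by
  by_cases hk : k = 0
  · rw [hk, zero_smul, zero_mul, zero_smul, D_zeroL]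
  by_cases hl : l = 0
  · rw [hl, zero_smul, map_zero, mul_zero, zero_smul, D_zeroR]
  exact ((tor W k l hk hl).2 a u).2.2

theorem B_smul (k : K) (a : K × K) (u : F × F) : B W (k • a) u = C.sh k • B W a u := by
  by_cases hk : k = 0
  · rw [hk, zero_smul, C.sh_zero, zero_smul, B_zeroL]
  have h := ((tor W k 1 hk one_ne_zero).2 a u).1
  rwa [map_one, mul_one, one_smul] at h

theorem G_smul (k : K) (a : K × K) (u : F × F) : Gg W (k • a) u = C.N k • Gg W a u := by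
  by_cases hk : k = 0
  · rw [hk, zero_smul, C.N_zero, zero_smul, G_zeroL]
  have h := ((tor W k 1 hk one_ne_zero).2 a u).2.1
  rwa [one_pow, mul_one, one_smul] at h

/-! ### the values on the small group -/

theorem T_small (k l : K) : T W (k, 0) (l, 0) = (C.T k l, 0) := u31 W (W.rel.r31 l k)

theorem X_small (k l : K) : X W (k, 0) (l, 0) = (C.cr k l, 0) := (u51 W (W.rel.r51 l k)).2.1

theorem B_small (k : K) (l : F) : B W (k, 0) (l, 0) = (l • C.sh k, 0) := (u61 W (W.rel.r61 l k)).2.1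

end Cfsg.Agent.HexRing.Grp2
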