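import Cfsg.Agent.HexRing.Fun3
import Cfsg.Agent.HexRing.Grp2

/-!
# The ring of a grown hexagonal 2-group: main theorem

`exists_qRel`: the labels of a grown system `Pos C G` can be changed (`lab`) so that all commutator relations are
those of the quadratic extension `K[ω]/F[ω]`, `ω² = β + ω`.
-/

set_option autoImplicit false

namespace Cfsg.Agent.HexRing.Main

open Cfsg.Agent.HexRec Cfsg.Agent.HexRing.Def Cfsg.Agent.HexRing.Grp Cfsg.Agent.HexRing.Grp2
  Cfsg.Agent.HexRing.Fun Cfsg.Agent.HexRing.Fun2 Cfsg.Agent.HexRing.Fun3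

variable {F K : Type*} [Field F] [Field K] [Algebra F K] {C : Cubic F K} {G : Type*} [Group G] (W : Pos C G)

/-- the functional system of `W` -/
noncomputable def fsys : FSys C (F × F) (K × K) where
  one := (1, 0)
  e := (0, 1)
  uno := (1, 0)
  tR := tt
  tM := tt
  tR_add a b := by ext <;> simp [tt] <;> ring
  tR_smul l a := by ext <;> simp [tt, mul_add]
  tR_one := by ext <;> simp [tt]
  tR_e := by ext <;> simp [tt]
  tM_add a b := by ext <;> simp [tt] <;> ring
  tM_smul l a := by ext <;> simp [tt, mul_add]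
  tM_uno := by ext <;> simp [tt]
  tM_tM a := by ext <;> simp [tt, add_assoc, C.add_selfK]
  decR r := ⟨r.1, r.2, by ext <;> simp⟩
  freeR a b h := by
    have h1 := congrArg Prod.fst h
    have h2 := congrArg Prod.snd h
    simp at h1 h2
    exact ⟨h1, h2⟩
  fixM m h := by
    have h1 := congrArg Prod.fst h
    simp only [tt] at h1
    refine ⟨m.1, ?_⟩
    ext
    · simp
    · simpa using h1
  freeM k h := by
    have h1 := congrArg Prod.fst h
    simpa using h1
  T := T W
  o := o W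
  D := D W
  X := X W
  P := P W
  A := A W
  B := B W
  G := Gg W
  T_add := T_addL W
  T_symm := T_symm W
  T_K := T_K W
  T_F := T_F W
  T_uno k l := by
    have h1 : k • ((1, 0) : K × K) = (k, 0) := by ext <;> simp
    have h2 : l • ((1, 0) : K × K) = (l, 0) := by ext <;> simp
    rw [h1, h2, T_small]
    ext <;> simp
  T_t := (tor_t W).1
  o_addL := o_addL W
  o_addR := o_addR W
  o_oneL := o_oneL W
  o_oneR := o_oneR W
  o_t := (tor_t W).2.1
  D_addL a a' u := (H4' W a a' u).2.2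
  D_addR a u u' := (H3' W a u' u).2.1
  D_smul := D_smul W
  D_one := D_one W
  D_t a u := ((tor_t W).2.2 a u).2
  H1 a u b := by rw [← H1', T'_eq]
  X_addL a a' b := (H5' W a a' b).2.1
  X_symm a b := (X_symm_aux W a b).1
  X_uno k l := by
    have h1 : k • ((1, 0) : K × K) = (k, 0) := by ext <;> simp
    have h2 : l • ((1, 0) : K × K) = (l, 0) := by ext <;> simp
    rw [h1, h2, X_small]
    ext <;> simp
  P_addL a a' b := by rw [(H5' W a a' b).1]; abel
  H2 a b u := by rw [H2', T'_eq, T'_eq, T_symm, T_symm W b]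
  A_addR a u u' := (H3' W a u' u).1
  G_addR a u u' := by
    rw [add_comm u u', (H3' W a u u').2.2, T'_eq]; abel
  B_addL a a' u := by rw [(H4' W a a' u).1]; abel
  G_addL a a' u := by rw [(H4' W a a' u).2.1, (X_symm_aux W _ _).2, T'_eq]; abel
  B_smul := B_smul W
  B_uno := by rw [B_small, C.sh_one, one_smul]
  B_t a u := ((tor_t W).2.2 a u).1
  G_smul := G_smul W

theorem thR_fsys {β : F} (r : RQ β) : thR (fsys W) r = lab β 0 r := by
  unfold thR lab fsys
  ext <;> simp

theorem exists_c : ∃ c : K, ∀ (β : F) (r : MQ K β), thM (fsys W) r = lab (algebraMap F K β) c r := by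
  have h := (fsys W).tM_f
  have h1 := congrArg Prod.fst h
  have h2 : (fsys W).f.2 = 1 := by
    change (fsys W).f.1 + (fsys W).f.2 = (fsys W).f.1 + 1 at h1
    exact add_left_cancel h1
  refine ⟨(fsys W).f.1, fun β r => ?_⟩
  unfold thM lab
  ext
  · change r.re * 1 + r.im * (fsys W).f.1 = _
    rw [mul_one, mul_comm]
  · change r.re * 0 + r.im * (fsys W).f.2 = _
    rw [h2, mul_zero, zero_add, mul_one]

theorem TQ_comm {β : F} (a b : MQ K β) : TQ C a b = TQ C b a := by
  unfold TQ
  rw [mul_comm]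

theorem exists_qRel (hN : ∃ k : K, C.N (k + 1) ≠ C.N k + 1)
    (hδ : (∃ l : F, l ^ 2 ≠ l) ∨ ∃ a b : K, C.cr a b ≠ 0) :
    ∃ (β : F) (c : K), QRel C β (fun z => W.y1 (lab (algebraMap F K β) c z)) (fun z => W.y2 (lab β 0 z))
      (fun z => W.y3 (lab (algebraMap F K β) c z)) (fun z => W.y4 (lab β 0 z))
      (fun z => W.y5 (lab (algebraMap F K β) c z)) (fun z => W.y6 (lab β 0 z)) := by
  obtain ⟨β, hβ⟩ := (fsys W).exists_beta
  obtain ⟨c, hc⟩ := exists_c W
  have hs := sharp_f (fsys W) hβ hδ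
  set Z := fsys W with hZ
  have hM : ∀ r : MQ K β, lab (algebraMap F K β) c r = thM Z r := fun r => (hc β r).symm
  have hR : ∀ r : RQ β, lab β 0 r = thR Z r := fun r => (thR_fsys W r).symm
  have eT : ∀ a b : MQ K β, T W (thM Z a) (thM Z b) = thR Z (TQ C a b) := T_th Z hβ
  have eo : ∀ s u : RQ β, o W (thR Z s) (thR Z u) = thR Z (s * u) := fun s u => (thR_mul Z hβ s u).symm
  have eD : ∀ (a : MQ K β) (u : RQ β), D W (thM Z a) (thR Z u) = thM Z (incl K u * a) := D_th Z hβ
  have eX : ∀ a b : MQ K β, X W (thM Z a) (thM Z b) = thM Z (crQ C a b) := X_th Z hβ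
  have eS : ∀ a : MQ K β, B W (thM Z a) (1, 0) = thM Z (shQ C a) := sharp_th Z hs
  have eP : ∀ a b : MQ K β, P W (thM Z a) (thM Z b) = thR Z (TQ C (shQ C a) b) := fun a b => by
    have h1 : P W (thM Z a) (thM Z b) = T W (B W (thM Z a) (1, 0)) (thM Z b) := P_eq Z _ _
    rw [h1, eS, eT]
  have eQ : ∀ a b : MQ K β, Q W (thM Z a) (thM Z b) = thR Z (TQ C a (shQ C b)) := fun a b => by
    rw [(X_symm_aux W _ _).2, eP, TQ_comm]
  have eB : ∀ (a : MQ K β) (u : RQ β), B W (thM Z a) (thR Z u) = thM Z (incl K u * shQ C a) := fun a u => by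
    have h1 : B W (thM Z a) (thR Z u) = D W (B W (thM Z a) (1, 0)) (thR Z u) := B_eq Z _ _
    rw [h1, eS, eD]
  have eA : ∀ (a : MQ K β) (u : RQ β), A W (thM Z a) (thR Z u) = thR Z (u * NQ C a) := fun a u => by
    have h1 : A W (thM Z a) (thR Z u) = o W (T W (B W (thM Z a) (1, 0)) (thM Z a)) (thR Z u) := A_eq Z _ _
    rw [h1, eS, eT, eo, mul_comm, TQ_comm]
    rfl
  have eG : ∀ (a : MQ K β) (u : RQ β), Gg W (thM Z a) (thR Z u) = thR Z (u ^ 2 * NQ C a) := fun a u => by
    have h1 : Gg W (thM Z a) (thR Z u) = o W (o W (thR Z u) (thR Z u)) (T W (B W (thM Z a) (1, 0)) (thM Z a)) :=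
      G_eq Z hβ hs hN _ _
    rw [h1, eS, eT, eo, eo, TQ_comm, sq]
    rfl
  refine ⟨β, c, ?_⟩
  simp only [hM, hR]
  exact
  { add1 := fun s t => by rw [thM_add, W.add1]
    add2 := fun s t => by rw [thR_add, W.add2]
    add3 := fun s t => by rw [thM_add, W.add3]
    add4 := fun s t => by rw [thR_add, W.add4]
    add5 := fun s t => by rw [thM_add, W.add5]
    add6 := fun s t => by rw [thR_add, W.add6]
    r21 := fun t a => W.r21 _ _
    r31 := fun b a => by rw [q31, eT]
    r41 := fun t a => W.r41 _ _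
    r51 := fun b a => by rw [q51, eP, eX, eQ]
    r61 := fun t a => by rw [q61, eA, eB, eG, eD]
    r32 := fun t a => W.r32 _ _
    r42 := fun t a => W.r42 _ _
    r52 := fun t a => W.r52 _ _
    r62 := fun b t => by rw [q62, eo, mul_comm]
    r43 := fun t a => W.r43 _ _
    r53 := fun b t => by rw [q53, T'_eq, eT, TQ_comm]
    r63 := fun t a => W.r63 _ _
    r54 := fun t a => W.r54 _ _
    r64 := fun t a => W.r64 _ _
    r65 := fun t a => W.r65 _ _ }

end Cfsg.Agent.HexRing.Main
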