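import Cfsg.Agent.HexRec.OfHexRel

/-!
# The ring of a grown hexagonal 2-group: interfaces

`Pos C G` (input of `HexRing.Main`): labelled root groups `y1, …, y6` of the grown group, `y_r : K × K → G` for `r`
odd, `F × F → G` for `r` even, with `y_r (a, 0)` the root elements of the small group.
`QRel C β z1 … z6` (output): the commutator relations over the quadratic algebras `F[ω]`, `K[ω]`,
`ω² = β + ω`.
-/

set_option autoImplicit false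

namespace Cfsg.Agent.HexRing.Def

open Cfsg.Agent.HexRec

variable {F K : Type*} [Field F] [Field K] [Algebra F K]

/-- Input: the positive part of a grown system, with labels. -/
structure Pos (C : Cubic F K) (G : Type*) [Group G] where
  y1 : K × K → G
  y2 : F × F → G
  y3 : K × K → G
  y4 : F × F → G
  y5 : K × K → G
  y6 : F × F → G
  add1 : ∀ v w, y1 (v + w) = y1 v * y1 w
  add2 : ∀ v w, y2 (v + w) = y2 v * y2 w
  add3 : ∀ v w, y3 (v + w) = y3 v * y3 w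
  add4 : ∀ v w, y4 (v + w) = y4 v * y4 w
  add5 : ∀ v w, y5 (v + w) = y5 v * y5 w
  add6 : ∀ v w, y6 (v + w) = y6 v * y6 w
  -- supports of the commutators
  r21 : ∀ t a, y2 t * y1 a = y1 a * y2 t
  s31 : ∀ b a, ∃ s, y3 b * y1 a = y1 a * (y2 s * y3 b)
  r41 : ∀ t a, y4 t * y1 a = y1 a * y4 t
  s51 : ∀ b a, ∃ p x q, y5 b * y1 a = y1 a * (y2 p * (y3 x * (y4 q * y5 b)))
  s61 : ∀ u a, ∃ p x q d, y6 u * y1 a = y1 a * (y2 p * (y3 x * (y4 q * (y5 d * y6 u))))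
  r32 : ∀ b t, y3 b * y2 t = y2 t * y3 b
  r42 : ∀ b t, y4 b * y2 t = y2 t * y4 b
  r52 : ∀ b t, y5 b * y2 t = y2 t * y5 b
  s62 : ∀ u t, ∃ s, y6 u * y2 t = y2 t * (y4 s * y6 u)
  r43 : ∀ b t, y4 b * y3 t = y3 t * y4 b
  s53 : ∀ b t, ∃ s, y5 b * y3 t = y3 t * (y4 s * y5 b)
  r63 : ∀ b t, y6 b * y3 t = y3 t * y6 b
  r54 : ∀ b t, y5 b * y4 t = y4 t * y5 b
  r64 : ∀ b t, y6 b * y4 t = y4 t * y6 b
  r65 : ∀ b t, y6 b * y5 t = y5 t * y6 b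
  /-- unique normal form -/
  inj : ∀ a b c d e f a' b' c' d' e' f',
    y1 a * (y2 b * (y3 c * (y4 d * (y5 e * y6 f)))) = y1 a' * (y2 b' * (y3 c' * (y4 d' * (y5 e' * y6 f')))) →
      a = a' ∧ b = b' ∧ c = c' ∧ d = d' ∧ e = e' ∧ f = f'
  /-- the relations of the small group -/
  rel : OfHexRel.PosRel C (fun a => y1 (a, 0)) (fun a => y2 (a, 0)) (fun a => y3 (a, 0)) (fun a => y4 (a, 0))
    (fun a => y5 (a, 0)) (fun a => y6 (a, 0))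
  /-- the involution (any element acting like this) -/
  t : G
  t1 : ∀ v, t * y1 v * t⁻¹ = y1 (v.1 + v.2, v.2)
  t2 : ∀ v, t * y2 v * t⁻¹ = y2 (v.1 + v.2, v.2)
  t3 : ∀ v, t * y3 v * t⁻¹ = y3 (v.1 + v.2, v.2)
  t4 : ∀ v, t * y4 v * t⁻¹ = y4 (v.1 + v.2, v.2)
  t5 : ∀ v, t * y5 v * t⁻¹ = y5 (v.1 + v.2, v.2)
  t6 : ∀ v, t * y6 v * t⁻¹ = y6 (v.1 + v.2, v.2)
  /-- the torus -/
  h : K → F → G
  h1 : ∀ k l, k ≠ 0 → l ≠ 0 → ∀ v, h k l * y1 v * (h k l)⁻¹ = y1 (k • v)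
  h2 : ∀ k l, k ≠ 0 → l ≠ 0 → ∀ v, h k l * y2 v * (h k l)⁻¹ = y2 ((C.N k * l) • v)
  h3 : ∀ k l, k ≠ 0 → l ≠ 0 → ∀ v, h k l * y3 v * (h k l)⁻¹ = y3 ((C.sh k * algebraMap F K l) • v)
  h4 : ∀ k l, k ≠ 0 → l ≠ 0 → ∀ v, h k l * y4 v * (h k l)⁻¹ = y4 ((C.N k * l ^ 2) • v)
  h5 : ∀ k l, k ≠ 0 → l ≠ 0 → ∀ v, h k l * y5 v * (h k l)⁻¹ = y5 ((k * algebraMap F K l) • v)
  h6 : ∀ k l, k ≠ 0 → l ≠ 0 → ∀ v, h k l * y6 v * (h k l)⁻¹ = y6 (l • v)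
  /-- the Weyl elements -/
  na : G
  nb : G
  na_sq : na * na = 1
  nb_sq : nb * nb = 1
  na2 : ∀ v, na * y2 v * na = y6 v
  na3 : ∀ v, na * y3 v * na = y5 v
  na4 : ∀ v, na * y4 v * na = y4 v
  nb1 : ∀ v, nb * y1 v * nb = y5 v
  nb2 : ∀ v, nb * y2 v * nb = y4 v
  nb3 : ∀ v, nb * y3 v * nb = y3 v
  /-- `nb = x6(1) x12(1) x6(1)`, `x12(1) = nb x6(1) nb` -/
  rank1 : y6 (1, 0) * (nb * y6 (1, 0) * nb) * y6 (1, 0) = nb

/-! ### The quadratic extension of the cubic datum -/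

/-- `F[ω]`, `ω² = β + ω` -/
abbrev RQ (β : F) : Type _ := QuadraticAlgebra F β 1

/-- `K[ω]`, `ω² = β + ω` -/
abbrev MQ (K : Type*) [Field K] [Algebra F K] (β : F) : Type _ := QuadraticAlgebra K (algebraMap F K β) 1

/-- the inclusion `F[ω] → K[ω]` -/
def incl (K : Type*) [Field K] [Algebra F K] {β : F} (r : RQ β) : MQ K β := ⟨algebraMap F K r.re, algebraMap F K r.im⟩

variable (C : Cubic F K) {β : F}

/-- trace form -/
def TQ (a b : MQ K β) : RQ β := ⟨C.tr (a * b).re, C.tr (a * b).im⟩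

/-- the adjoint: `(a + b ω)^# = a^# + (a × b) ω + b^# ω²` -/
def shQ (a : MQ K β) : MQ K β :=
  ⟨C.sh a.re + algebraMap F K β * C.sh a.im, C.cr a.re a.im + C.sh a.im⟩

/-- the cross product -/
def crQ (a b : MQ K β) : MQ K β :=
  ⟨C.cr a.re b.re + algebraMap F K β * C.cr a.im b.im, C.cr a.re b.im + C.cr a.im b.re + C.cr a.im b.im⟩

/-- the norm -/
def NQ (a : MQ K β) : RQ β := TQ C a (shQ C a)

/-- the positive relations over `K[ω]/F[ω]` -/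
structure QRel (C : Cubic F K) (β : F) {S : Type*} [Group S] (z1 : MQ K β → S) (z2 : RQ β → S) (z3 : MQ K β → S)
    (z4 : RQ β → S) (z5 : MQ K β → S) (z6 : RQ β → S) : Prop where
  add1 : ∀ s t, z1 (s + t) = z1 s * z1 t
  add2 : ∀ s t, z2 (s + t) = z2 s * z2 t
  add3 : ∀ s t, z3 (s + t) = z3 s * z3 t
  add4 : ∀ s t, z4 (s + t) = z4 s * z4 t
  add5 : ∀ s t, z5 (s + t) = z5 s * z5 t
  add6 : ∀ s t, z6 (s + t) = z6 s * z6 t
  r21 : ∀ t a, z2 t * z1 a = z1 a * z2 t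
  r31 : ∀ b a, z3 b * z1 a = z1 a * (z2 (TQ C a b) * z3 b)
  r41 : ∀ t a, z4 t * z1 a = z1 a * z4 t
  r51 : ∀ b a, z5 b * z1 a = z1 a * (z2 (TQ C (shQ C a) b) * (z3 (crQ C a b) * (z4 (TQ C a (shQ C b)) * z5 b)))
  r61 : ∀ t a, z6 t * z1 a = z1 a * (z2 (t * NQ C a) * (z3 (incl K t * shQ C a) * (z4 (t ^ 2 * NQ C a) *
    (z5 (incl K t * a) * z6 t))))
  r32 : ∀ b t, z3 b * z2 t = z2 t * z3 b
  r42 : ∀ b t, z4 b * z2 t = z2 t * z4 b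
  r52 : ∀ b t, z5 b * z2 t = z2 t * z5 b
  r62 : ∀ b t, z6 b * z2 t = z2 t * (z4 (b * t) * z6 b)
  r43 : ∀ b t, z4 b * z3 t = z3 t * z4 b
  r53 : ∀ b t, z5 b * z3 t = z3 t * (z4 (TQ C t b) * z5 b)
  r63 : ∀ b t, z6 b * z3 t = z3 t * z6 b
  r54 : ∀ b t, z5 b * z4 t = z4 t * z5 b
  r64 : ∀ b t, z6 b * z4 t = z4 t * z6 b
  r65 : ∀ b t, z6 b * z5 t = z5 t * z6 b

/-- the labels over the quadratic algebras: `(a + b ω) ↦ (a + c b, b)` -/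
def lab {k : Type*} [Field k] (β : k) (c : k) (z : QuadraticAlgebra k β 1) : k × k := (z.re + c * z.im, z.im)

end Cfsg.Agent.HexRing.Def
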