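import Mathlib

/-!
# An equivariant section (Maschke)

`exists_section`: a surjective homomorphism `δ : V → A` of elementary abelian 2-groups which is equivariant for a finite
group `H` of odd order has an `H`-equivariant section.
-/

set_option autoImplicit false

namespace Cfsg.Agent.HexRing.Avg

open Finset

variable {H V A : Type*} [Group H] [Finite H] [AddCommGroup V] [AddCommGroup A]

theorem exists_section (hodd : Odd (Nat.card H)) (hV : ∀ v : V, v + v = 0) (hA : ∀ a : A, a + a = 0)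
    (ρ : H → V →+ V) (ρ_mul : ∀ g h v, ρ (g * h) v = ρ g (ρ h v))
    (χ : H → A →+ A) (χ_mul : ∀ g h v, χ (g * h) v = χ g (χ h v)) (χ_one : ∀ v, χ 1 v = v)
    (δ : V →+ A) (hδ : Function.Surjective δ) (hδρ : ∀ g v, δ (ρ g v) = χ g (δ v)) :
    ∃ s : A →+ V, (∀ a, δ (s a) = a) ∧ ∀ g a, ρ g (s a) = s (χ g a) := by
  classical
  have : Fintype H := Fintype.ofFinite H
  let _ : Module (ZMod 2) V := AddCommGroup.zmodModule (n := 2) fun v => by rw [two_nsmul, hV]
  let _ : Module (ZMod 2) A := AddCommGroup.zmodModule (n := 2) fun v => by rw [two_nsmul, hA]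
  obtain ⟨s0, hs0⟩ := LinearMap.exists_rightInverse_of_surjective (δ.toZModLinearMap 2)
    (LinearMap.range_eq_top.2 hδ)
  have hs : ∀ a, δ (s0 a) = a := fun a => LinearMap.congr_fun hs0 a
  let s : A →+ V := ∑ g : H, (ρ g⁻¹).comp (s0.toAddMonoidHom.comp (χ g))
  have hsa : ∀ a, s a = ∑ g : H, ρ g⁻¹ (s0 (χ g a)) := fun a => by
    simp only [s, AddMonoidHom.finsetSum_apply, AddMonoidHom.comp_apply]
    rfl
  refine ⟨s, fun a => ?_, fun h a => ?_⟩
  · rw [hsa, map_sum]
    have h1 : ∀ g : H, δ (ρ g⁻¹ (s0 (χ g a))) = a := fun g => by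
      rw [hδρ, hs, ← χ_mul, inv_mul_cancel, χ_one]
    simp only [h1, sum_const, card_univ]
    rw [← Nat.card_eq_fintype_card]
    obtain ⟨k, hk⟩ := hodd
    rw [hk, add_smul, one_smul, mul_comm, mul_smul, two_nsmul, hA, smul_zero, zero_add]
  · rw [hsa, hsa, map_sum]
    refine Fintype.sum_equiv (Equiv.mulRight h⁻¹) _ _ fun g => ?_
    simp only [Equiv.coe_mulRight]
    rw [← ρ_mul, mul_inv_rev, inv_inv, ← χ_mul, inv_mul_cancel_right]

open scoped commutatorElement in
/-- equivariant lifts of the elements of `X = [V, t]` to `V` -/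
theorem exists_lift {Γ : Type*} [Group Γ] {V H : Subgroup Γ} [Finite H] (hodd : Odd (Nat.card H))
    (sq : ∀ y ∈ V, y * y = 1) {A : Type*} [AddCommGroup A] (hA : ∀ a : A, a + a = 0) (xk : A → Γ)
    (xk_add : ∀ a b, xk (a + b) = xk a * xk b) (xk_inj : ∀ a b, xk a = xk b → a = b) (xkV : ∀ a, xk a ∈ V)
    {t : Γ} (br : ∀ y ∈ V, ∃ a, ⁅t, y⁆ = xk a) (onto : ∀ a, ∃ y ∈ V, ⁅t, y⁆ = xk a)
    (HV : ∀ g ∈ H, ∀ y ∈ V, g * y * g⁻¹ ∈ V) (Ht : ∀ g ∈ H, g * t = t * g)
    (χ : Γ → A → A) (hχ : ∀ g ∈ H, ∀ a, g * xk a * g⁻¹ = xk (χ g a)) :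
    ∃ v : A → Γ, (∀ a, v a ∈ V) ∧ (∀ a b, v (a + b) = v a * v b) ∧ (∀ a, t * v a * t⁻¹ = v a * xk a) ∧
      ∀ g ∈ H, ∀ a, g * v a * g⁻¹ = v (χ g a) := by
  have hinv : ∀ y ∈ V, y⁻¹ = y := fun y hy => inv_eq_of_mul_eq_one_right (sq y hy)
  have hcomm : ∀ y ∈ V, ∀ z ∈ V, y * z = z * y := fun y hy z hz => by
    have h1 := hinv _ (V.mul_mem hy hz)
    rw [mul_inv_rev, hinv y hy, hinv z hz] at h1
    exact h1.symm
  let _ : CommGroup V :=
    { (inferInstance : Group V) with mul_comm := fun a b => Subtype.ext (hcomm a a.2 b b.2) }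
  have xk_zero : xk 0 = 1 := left_eq_mul.1 (by rw [← xk_add, add_zero] : xk 0 = xk 0 * xk 0)
  choose d hd using br
  have hd_eq : ∀ y (hy : y ∈ V), t * y * t⁻¹ = y * xk (d y hy) := fun y hy => by
    have h1 := hd y hy
    rw [commutatorElement_def, hinv y hy] at h1
    have h2 : t * y * t⁻¹ = xk (d y hy) * y := by
      rw [← h1, mul_assoc (t * y * t⁻¹), sq y hy, mul_one]
    rw [h2, hcomm _ (xkV _) _ hy]
  have hd_uniq : ∀ y (hy : y ∈ V) a, t * y * t⁻¹ = y * xk a → d y hy = a := fun y hy a h => by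
    rw [hd_eq y hy] at h
    exact xk_inj _ _ (mul_left_cancel h)
  let δ : Additive V →+ A :=
    { toFun := fun y => d (y.toMul : V) (y.toMul : V).2
      map_zero' := by
        apply hd_uniq
        rw [xk_zero, mul_one]
        change t * 1 * t⁻¹ = 1
        rw [mul_one, mul_inv_cancel]
      map_add' := fun y z => by
        apply hd_uniq
        rw [xk_add]
        change t * ((y.toMul : V) * (z.toMul : V) : Γ) * t⁻¹ = _
        have h1 := hd_eq _ (y.toMul : V).2
        have h2 := hd_eq _ (z.toMul : V).2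
        calc t * ((y.toMul : V) * (z.toMul : V) : Γ) * t⁻¹ =
            (t * (y.toMul : V) * t⁻¹) * (t * (z.toMul : V) * t⁻¹) := by group
          _ = (y.toMul : V) * (xk (d _ (y.toMul : V).2) * (z.toMul : V)) * xk (d _ (z.toMul : V).2) := by
            rw [h1, h2]; group
          _ = _ := by
            rw [hcomm _ (xkV _) _ (z.toMul : V).2]
            change _ = ((y.toMul : V) * (z.toMul : V) : Γ) * _
            group }
  have hχ_inj : ∀ g ∈ H, ∀ a b, χ g (a + b) = χ g a + χ g b := fun g hg a b => by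
    apply xk_inj
    rw [← hχ g hg, xk_add, xk_add, ← hχ g hg, ← hχ g hg]
    group
  let χ' : H → A →+ A := fun g => AddMonoidHom.mk' (χ g) (hχ_inj g g.2)
  let ρ : H → Additive V →+ Additive V := fun g => AddMonoidHom.mk'
    (fun y => Additive.ofMul ⟨(g : Γ) * (y.toMul : V) * (g : Γ)⁻¹, HV g g.2 _ (y.toMul : V).2⟩) (fun y z => by
      apply congrArg Additive.ofMul
      apply Subtype.ext
      change (g : Γ) * ((y.toMul : V) * (z.toMul : V) : Γ) * (g : Γ)⁻¹ =
        ((g : Γ) * (y.toMul : V) * (g : Γ)⁻¹) * ((g : Γ) * (z.toMul : V) * (g : Γ)⁻¹)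
      group)
  obtain ⟨s, hs1, hs2⟩ := exists_section (H := H) (V := Additive V) (A := A) hodd
    (fun v => by
      apply congrArg Additive.ofMul
      exact Subtype.ext (sq _ (v.toMul : V).2)) hA ρ
    (fun g h v => by
      apply congrArg Additive.ofMul
      apply Subtype.ext
      change (g * h : Γ) * (v.toMul : V) * (g * h : Γ)⁻¹ = (g : Γ) * ((h : Γ) * (v.toMul : V) * (h : Γ)⁻¹) * (g : Γ)⁻¹
      group) χ'
    (fun g h v => by
      change χ (g * h) v = χ g (χ h v)
      apply xk_inj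
      rw [← hχ _ (H.mul_mem g.2 h.2), ← hχ _ g.2, ← hχ _ h.2]
      group)
    (fun v => by
      change χ 1 v = v
      apply xk_inj
      rw [← hχ _ H.one_mem]
      group) δ
    (fun a => by
      obtain ⟨y, hy, e⟩ := onto a
      refine ⟨Additive.ofMul ⟨y, hy⟩, ?_⟩
      apply xk_inj
      change xk (d y hy) = xk a
      rw [← hd y hy, e])
    (fun g v => by
      change d ((g : Γ) * (v.toMul : V) * (g : Γ)⁻¹) _ = χ g (d (v.toMul : V) _)
      apply hd_uniq
      rw [← hχ _ g.2]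
      have h1 := hd_eq _ (v.toMul : V).2
      have h2 := Ht g g.2
      have h3 : (g : Γ)⁻¹ * t⁻¹ = t⁻¹ * (g : Γ)⁻¹ := by rw [← mul_inv_rev, ← mul_inv_rev, h2]
      calc t * ((g : Γ) * (v.toMul : V) * (g : Γ)⁻¹) * t⁻¹ = (t * g) * (v.toMul : V) * ((g : Γ)⁻¹ * t⁻¹) := by group
        _ = (g * t) * (v.toMul : V) * (t⁻¹ * (g : Γ)⁻¹) := by rw [← h2, h3]
        _ = g * (t * (v.toMul : V) * t⁻¹) * (g : Γ)⁻¹ := by group
        _ = _ := by rw [h1]; group)
  refine ⟨fun a => ((s a).toMul : V), fun a => ((s a).toMul : V).2, fun a b => ?_, fun a => ?_, fun g hg a => ?_⟩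
  · change (((s (a + b)).toMul : V) : Γ) = _
    rw [map_add]
    rfl
  · rw [hd_eq _ ((s a).toMul : V).2]
    have : d _ ((s a).toMul : V).2 = a := hs1 a
    rw [this]
  · have h1 := congrArg (fun y : Additive V => ((y.toMul : V) : Γ)) (hs2 ⟨g, hg⟩ a)
    exact h1

end Cfsg.Agent.HexRing.Avg
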