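import Cfsg.Agent.HexRing.Def
import Cfsg.Agent.HexRec.Model

/-!
# The field case: coordinates over the quadratic extension

`Tr C β D`: the cubic datum `D` over `(F', K')` is the quadratic extension `F[ω]`, `K[ω]` of `C`.
`posRel`: `QRel C β` gives `PosRel D`.  `coord`: coordinates over `D` on the product set.
-/

set_option autoImplicit false

namespace Cfsg.Agent.HexRing.Field

open Cfsg.Agent.HexRec Cfsg.Agent.HexRec.OfHexRel Cfsg.Agent.HexRing.Def

variable {F K : Type*} [Field F] [Field K] [Algebra F K]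
  {F' K' : Type*} [Field F'] [Field K'] [Algebra F' K']

/-- `D` is the quadratic extension of `C` -/
structure Tr (C : Cubic F K) (β : F) (D : Cubic F' K') where
  eK : K' ≃+* MQ K β
  eF : F' ≃+* RQ β
  comp : ∀ f, incl K (eF f) = eK (algebraMap F' K' f)
  tr : ∀ a, eF (D.tr a) = ⟨C.tr (eK a).re, C.tr (eK a).im⟩
  sh : ∀ a, eK (D.sh a) = shQ C (eK a)

namespace Tr

variable {C : Cubic F K} {β : F} {D : Cubic F' K'} (W : Tr C β D)

theorem shQ_add (C : Cubic F K) {β : F} (x y : MQ K β) : shQ C (x + y) + shQ C x + shQ C y = crQ C x y := by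
  have h1 := C.sh_add' x.re y.re
  have h2 := C.sh_add' x.im y.im
  have c1 := C.cr_add_left x.re y.re (x.im + y.im)
  have c2 := C.cr_add_right x.re x.im y.im
  have c3 := C.cr_add_right y.re x.im y.im
  have c4 := C.cr_comm y.re x.im
  have two := C.two_K
  apply QuadraticAlgebra.ext
  · change C.sh (x.re + y.re) + algebraMap F K β * C.sh (x.im + y.im) + (C.sh x.re + algebraMap F K β * C.sh x.im) +
      (C.sh y.re + algebraMap F K β * C.sh y.im) = C.cr x.re y.re + algebraMap F K β * C.cr x.im y.im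
    linear_combination h1 + algebraMap F K β * h2 + (C.sh x.re + C.sh y.re + algebraMap F K β * C.sh x.im +
      algebraMap F K β * C.sh y.im) * two
  · change C.cr (x.re + y.re) (x.im + y.im) + C.sh (x.im + y.im) + (C.cr x.re x.im + C.sh x.im) +
      (C.cr y.re y.im + C.sh y.im) = C.cr x.re y.im + C.cr x.im y.re + C.cr x.im y.im
    linear_combination h2 + c1 + c2 + c3 + c4 + (C.cr x.re x.im + C.cr y.re y.im + C.sh x.im + C.sh y.im) * two

theorem cr (a b : K') : W.eK (D.cr a b) = crQ C (W.eK a) (W.eK b) := by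
  unfold Cubic.cr
  rw [map_add, map_add, W.sh, W.sh, W.sh, map_add, shQ_add]

theorem T (a b : K') : W.eF (D.T a b) = TQ C (W.eK a) (W.eK b) := by
  unfold Cubic.T TQ
  rw [W.tr, map_mul]

theorem N (a : K') : W.eF (D.N a) = NQ C (W.eK a) := by
  rw [← D.T_self_sh, W.T, W.sh]
  rfl

theorem smul (f : F') (a : K') : W.eK (f • a) = incl K (W.eF f) * W.eK a := by
  rw [Algebra.smul_def, map_mul, W.comp]

variable {S : Type*} [Group S] {z1 : MQ K β → S} {z2 : RQ β → S} {z3 : MQ K β → S}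
  {z4 : RQ β → S} {z5 : MQ K β → S} {z6 : RQ β → S}

theorem posRel (Q : QRel C β z1 z2 z3 z4 z5 z6) : PosRel D (fun a => z1 (W.eK a)) (fun a => z2 (W.eF a)) (fun a => z3 (W.eK a)) (fun a => z4 (W.eF a))
    (fun a => z5 (W.eK a)) (fun a => z6 (W.eF a)) where
  add1 s t := by rw [map_add, Q.add1]
  add2 s t := by rw [map_add, Q.add2]
  add3 s t := by rw [map_add, Q.add3]
  add4 s t := by rw [map_add, Q.add4]
  add5 s t := by rw [map_add, Q.add5]
  add6 s t := by rw [map_add, Q.add6]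
  r21 _ _ := Q.r21 _ _
  r31 b a := by rw [W.T, Q.r31]
  r41 _ _ := Q.r41 _ _
  r51 b a := by rw [W.T, W.T, W.sh, W.sh, W.cr, Q.r51]
  r61 t a := by rw [map_mul, map_mul, map_pow, W.N, W.smul, W.smul, W.sh, Q.r61]
  r32 _ _ := Q.r32 _ _
  r42 _ _ := Q.r42 _ _
  r52 _ _ := Q.r52 _ _
  r62 b t := by rw [map_mul, Q.r62]
  r43 _ _ := Q.r43 _ _
  r53 b t := by rw [W.T, Q.r53]
  r63 _ _ := Q.r63 _ _
  r54 _ _ := Q.r54 _ _
  r64 _ _ := Q.r64 _ _
  r65 _ _ := Q.r65 _ _

/-- the product map in the new coordinates -/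
theorem pm_eq (a : Tup F' K') : PosRel.pm (fun a => z1 (W.eK a)) (fun a => z2 (W.eF a)) (fun a => z3 (W.eK a))
    (fun a => z4 (W.eF a)) (fun a => z5 (W.eK a)) (fun a => z6 (W.eF a)) a =
    PosRel.pm z1 z2 z3 z4 z5 z6 ⟨W.eK a.a1, W.eF a.a2, W.eK a.a3, W.eF a.a4, W.eK a.a5, W.eF a.a6⟩ := rfl

include W in
/-- **Coordinates over the quadratic extension.** -/
theorem exists_coord (S₀ : Subgroup S) (hinj : Function.Injective (PosRel.pm z1 z2 z3 z4 z5 z6))
    (hS : ∀ g, g ∈ S₀ ↔ ∃ a, PosRel.pm z1 z2 z3 z4 z5 z6 a = g) (Q : QRel C β z1 z2 z3 z4 z5 z6) :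
    Nonempty (Coord D S₀) := by
  have H := W.posRel Q
  obtain ⟨p, hp⟩ : ∃ p : Tup F' K' → S, p = PosRel.pm (fun a => z1 (W.eK a)) (fun a => z2 (W.eF a))
    (fun a => z3 (W.eK a)) (fun a => z4 (W.eF a)) (fun a => z5 (W.eK a)) (fun a => z6 (W.eF a)) := ⟨_, rfl⟩
  have hpm : ∀ a b, p a * p b = p (D.mul a b) := fun a b => by rw [hp]; exact H.pm_mul a b
  have hpe : ∀ a, p a = PosRel.pm z1 z2 z3 z4 z5 z6
      ⟨W.eK a.a1, W.eF a.a2, W.eK a.a3, W.eF a.a4, W.eK a.a5, W.eF a.a6⟩ := fun a => by rw [hp, W.pm_eq]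
  have hinj' : Function.Injective p := by
    intro a b e
    rw [hpe, hpe] at e
    have e' := hinj e
    simp only [Tup.mk.injEq, EmbeddingLike.apply_eq_iff_eq] at e'
    exact Tup.ext e'.1 e'.2.1 e'.2.2.1 e'.2.2.2.1 e'.2.2.2.2.1 e'.2.2.2.2.2
  have hmem : ∀ a, p a ∈ S₀ := fun a => (hS _).2 ⟨_, (hpe a).symm⟩
  have hbij : Function.Bijective (fun a => (⟨p a, hmem a⟩ : S₀)) := by
    refine ⟨fun a b e => hinj' (congrArg Subtype.val e), ?_⟩
    rintro ⟨g, hg⟩
    obtain ⟨a, rfl⟩ := (hS g).1 hg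
    refine ⟨⟨W.eK.symm a.a1, W.eF.symm a.a2, W.eK.symm a.a3, W.eF.symm a.a4, W.eK.symm a.a5, W.eF.symm a.a6⟩, ?_⟩
    apply Subtype.ext
    change p _ = _
    rw [hpe]
    simp only [RingEquiv.apply_symm_apply]
  let e := Equiv.ofBijective _ hbij
  have he : ∀ a b, e (D.mul a b) = e a * e b := fun a b => Subtype.ext (hpm a b).symm
  refine ⟨⟨e.symm, fun g h => ?_⟩⟩
  apply e.injective
  rw [Equiv.apply_symm_apply, he, Equiv.apply_symm_apply, Equiv.apply_symm_apply]

end Tr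

/-- two groups with coordinates over the same datum are isomorphic -/
theorem iso {D : Cubic F' K'} {S T : Type*} [Group S] [Group T] (E : Coord D S) (E' : Coord D T) :
    Nonempty (S ≃* T) :=
  ⟨{ toEquiv := E.e.trans E'.e.symm
     map_mul' := fun g h => by
       apply E'.e.injective
       change E'.e (E'.e.symm (E.e (g * h))) = E'.e (E'.e.symm (E.e g) * E'.e.symm (E.e h))
       rw [Equiv.apply_symm_apply, E'.map_mul, Equiv.apply_symm_apply, Equiv.apply_symm_apply, E.map_mul] }⟩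

end Cfsg.Agent.HexRing.Field
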