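import Cfsg.Agent.HexRing.FieldSyl
import Cfsg.Agent.HexEight.SplitA
import Cfsg.Agent.HexGrow.Defs

/-!
# The field case for a grown system

`field_g2`, `field_d4`: in the field case of `HexEight.Main.split_or_qr` the grown group `UU V 1` is isomorphic to a
Sylow 2-subgroup of `G₂(q²)`, resp. `³D₄(q²)`.
-/

set_option autoImplicit false

namespace Cfsg.Agent.HexRing.FieldFin

open Cfsg.Agent.HexRec Cfsg.Agent.HexRec.OfHexRel Cfsg.Agent.HexRing.Def Cfsg.Agent.Hex.Defs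
open Cfsg.Agent.HexRing.Field Cfsg.Agent.HexRing.FieldTr Cfsg.Lie
open Cfsg.Agent.StdRank2.Hex Cfsg.Agent.SplitTwo Cfsg.Agent.StdRank2.Hex.HexTwo Cfsg.Agent.HexEight.Def
open Cfsg.Agent.HexEight.Lab Cfsg.Agent.HexEight.ToPos Cfsg.Agent.HexEight.SplitA Cfsg.Agent.HexGrow.Defs

/-- the product set from generation -/
theorem mem_of_gen {F K F' K' : Type*} [Field F] [Field K] [Algebra F K] [Field F'] [Field K'] [Algebra F' K']
    {C : Cubic F K} {β : F} {D : Cubic F' K'} (W : Tr C β D) {S : Type*} [Group S] [Finite S] {z1 : MQ K β → S}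
    {z2 : RQ β → S} {z3 : MQ K β → S} {z4 : RQ β → S} {z5 : MQ K β → S} {z6 : RQ β → S}
    (Q : QRel C β z1 z2 z3 z4 z5 z6) (S₀ : Subgroup S) (m1 : ∀ a, z1 a ∈ S₀) (m2 : ∀ a, z2 a ∈ S₀)
    (m3 : ∀ a, z3 a ∈ S₀) (m4 : ∀ a, z4 a ∈ S₀) (m5 : ∀ a, z5 a ∈ S₀) (m6 : ∀ a, z6 a ∈ S₀)
    (hle : ∀ T : Subgroup S, (∀ a, z1 a ∈ T) → (∀ a, z2 a ∈ T) → (∀ a, z3 a ∈ T) → (∀ a, z4 a ∈ T) →
      (∀ a, z5 a ∈ T) → (∀ a, z6 a ∈ T) → S₀ ≤ T) (g : S) :
    g ∈ S₀ ↔ ∃ a, PosRel.pm z1 z2 z3 z4 z5 z6 a = g := by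
  constructor
  · intro hg
    have H := W.posRel Q
    have o1 : z1 0 = 1 := left_eq_mul.1 (by rw [← Q.add1, add_zero] : z1 0 = z1 0 * z1 0)
    have o2 : z2 0 = 1 := left_eq_mul.1 (by rw [← Q.add2, add_zero] : z2 0 = z2 0 * z2 0)
    have o3 : z3 0 = 1 := left_eq_mul.1 (by rw [← Q.add3, add_zero] : z3 0 = z3 0 * z3 0)
    have o4 : z4 0 = 1 := left_eq_mul.1 (by rw [← Q.add4, add_zero] : z4 0 = z4 0 * z4 0)
    have o5 : z5 0 = 1 := left_eq_mul.1 (by rw [← Q.add5, add_zero] : z5 0 = z5 0 * z5 0)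
    have o6 : z6 0 = 1 := left_eq_mul.1 (by rw [← Q.add6, add_zero] : z6 0 = z6 0 * z6 0)
    have h1 : g ∈ Model.R H := by
      refine hle (Model.R H) ?_ ?_ ?_ ?_ ?_ ?_ hg
      · intro a
        refine ⟨⟨W.eK.symm a, 0, 0, 0, 0, 0⟩, ?_⟩
        rw [W.pm_eq]
        simp [PosRel.pm, o2, o3, o4, o5, o6]
      · intro a
        refine ⟨⟨0, W.eF.symm a, 0, 0, 0, 0⟩, ?_⟩
        rw [W.pm_eq]
        simp [PosRel.pm, o1, o3, o4, o5, o6]
      · intro a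
        refine ⟨⟨0, 0, W.eK.symm a, 0, 0, 0⟩, ?_⟩
        rw [W.pm_eq]
        simp [PosRel.pm, o1, o2, o4, o5, o6]
      · intro a
        refine ⟨⟨0, 0, 0, W.eF.symm a, 0, 0⟩, ?_⟩
        rw [W.pm_eq]
        simp [PosRel.pm, o1, o2, o3, o5, o6]
      · intro a
        refine ⟨⟨0, 0, 0, 0, W.eK.symm a, 0⟩, ?_⟩
        rw [W.pm_eq]
        simp [PosRel.pm, o1, o2, o3, o4, o6]
      · intro a
        refine ⟨⟨0, 0, 0, 0, 0, W.eF.symm a⟩, ?_⟩
        rw [W.pm_eq]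
        simp [PosRel.pm, o1, o2, o3, o4, o5]
    obtain ⟨a, rfl⟩ := h1
    exact ⟨_, (W.pm_eq a).symm⟩
  · rintro ⟨a, rfl⟩
    exact mul_mem (m1 _) (mul_mem (m2 _) (mul_mem (m3 _) (mul_mem (m4 _) (mul_mem (m5 _) (m6 _)))))

section

variable {F K : Type*} [Field F] [Field K] [Algebra F K] {φ : K ≃ₐ[F] K} {hφ : CubicPair φ} [Finite K]
  {G : Type*} [Group G] [Finite G] {t : G} {V : ZMod 12 → Subgroup G}
  {x : ZMod 12 → K → G} {g : Gr (φ : K ≃+* K) x t V} {z : ZMod 12 → K → G} {L : Lab (φ : K ≃+* K) x t V z}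
  {β : F} {c : K}

theorem lab_inj {k : Type*} [Field k] (b c : k) : Function.Injective (lab b c) := by
  intro u v e
  have e2 : u.im = v.im := congrArg Prod.snd e
  have e1 : u.re + c * u.im = v.re + c * v.im := congrArg Prod.fst e
  rw [e2] at e1
  exact QuadraticAlgebra.ext (add_right_cancel e1) e2

theorem lab_surj {k : Type*} [Field k] (b c : k) (v : k × k) : ∃ u, lab b c u = v :=
  ⟨⟨v.1 - c * v.2, v.2⟩, Prod.ext (sub_add_cancel _ _) rfl⟩

omit [Finite G] in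
theorem inj : Function.Injective (PosRel.pm (fun m => (pos hφ g L).y1 (lab (algebraMap F K β) c m))
    (fun m => (pos hφ g L).y2 (lab β 0 m)) (fun m => (pos hφ g L).y3 (lab (algebraMap F K β) c m))
    (fun m => (pos hφ g L).y4 (lab β 0 m)) (fun m => (pos hφ g L).y5 (lab (algebraMap F K β) c m))
    (fun m => (pos hφ g L).y6 (lab β 0 m))) := by
  intro a b e
  obtain ⟨e1, e2, e3, e4, e5, e6⟩ := (pos hφ g L).inj _ _ _ _ _ _ _ _ _ _ _ _ e
  exact Tup.ext (lab_inj _ _ e1) (lab_inj _ _ e2) (lab_inj _ _ e3) (lab_inj _ _ e4) (lab_inj _ _ e5) (lab_inj _ _ e6)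

omit [Finite G] in
theorem V_le {k : ZMod 12} (hk : k = 1 ∨ k = 2 ∨ k = 3 ∨ k = 4 ∨ k = 5 ∨ k = 6) : V k ≤ UU V 1 := by
  have h1 : V 1 ≤ UU V 1 := le_sup_of_le_left (le_sup_of_le_left (le_sup_of_le_left (le_sup_of_le_left le_sup_left)))
  have h2 : V (1 + 1) ≤ UU V 1 :=
    le_sup_of_le_left (le_sup_of_le_left (le_sup_of_le_left (le_sup_of_le_left le_sup_right)))
  have h3 : V (1 + 2) ≤ UU V 1 := le_sup_of_le_left (le_sup_of_le_left (le_sup_of_le_left le_sup_right))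
  have h4 : V (1 + 3) ≤ UU V 1 := le_sup_of_le_left (le_sup_of_le_left le_sup_right)
  have h5 : V (1 + 4) ≤ UU V 1 := le_sup_of_le_left le_sup_right
  have h6 : V (1 + 5) ≤ UU V 1 := le_sup_right
  rcases hk with rfl | rfl | rfl | rfl | rfl | rfl
  exacts [h1, h2, h3, h4, h5, h6]

/-- coordinates over `D` on `UU V 1` -/
theorem exists_coord (hQ : QR hφ g L β c) {F' K' : Type*} [Field F'] [Field K'] [Algebra F' K'] {D : Cubic F' K'}
    (W : Tr (OfPair.cubic hφ) β D) : Nonempty (Coord D (UU V 1)) := by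
  refine W.exists_coord (UU V 1) inj (mem_of_gen W hQ (UU V 1) ?_ ?_ ?_ ?_ ?_ ?_ ?_) hQ
  · intro a
    exact V_le (by decide) (Y_mem g L (ok1 _) (ok1 _))
  · intro a
    exact V_le (by decide) (Y_mem g L (okF _ _) (okF _ _))
  · intro a
    exact V_le (by decide) (Y_mem g L (ok3 _) (ok3 _))
  · intro a
    exact V_le (by decide) (Y_mem g L (okF _ _) (okF _ _))
  · intro a
    exact V_le (by decide) (Y_mem g L (ok5 _) (ok5 _))
  · intro a
    exact V_le (by decide) (Y_mem g L (okF _ _) (okF _ _))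
  · intro T t1 t2 t3 t4 t5 t6
    have odd : ∀ k : ZMod 12, (∀ a : K × K, Y x z k a.1 a.2 ∈ T) → V k ≤ T := by
      intro k hk y hy
      obtain ⟨a, b, -, -, rfl⟩ := Y_surj g L hy
      exact hk (a, b)
    have even : ∀ k : ZMod 12, k.val % 2 = 0 → (∀ a : F × F, Y x z k (algebraMap F K a.1) (algebraMap F K a.2) ∈ T) →
        V k ≤ T := by
      intro k hk0 hk y hy
      obtain ⟨a, b, ha, hb, rfl⟩ := Y_surj g L hy
      obtain ⟨a, rfl⟩ := exists_F hφ (ha hk0)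
      obtain ⟨b, rfl⟩ := exists_F hφ (hb hk0)
      exact hk (a, b)
    refine sup_le (sup_le (sup_le (sup_le (sup_le ?_ ?_) ?_) ?_) ?_) ?_
    · refine odd 1 fun a => ?_
      obtain ⟨u, hu⟩ := lab_surj (algebraMap F K β) c a
      rw [← hu]
      exact t1 u
    · refine even (1 + 1) (by decide) fun a => ?_
      obtain ⟨u, hu⟩ := lab_surj β 0 a
      rw [← hu]
      exact t2 u
    · refine odd (1 + 2) fun a => ?_
      obtain ⟨u, hu⟩ := lab_surj (algebraMap F K β) c a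
      rw [← hu]
      exact t3 u
    · refine even (1 + 3) (by decide) fun a => ?_
      obtain ⟨u, hu⟩ := lab_surj β 0 a
      rw [← hu]
      exact t4 u
    · refine odd (1 + 4) fun a => ?_
      obtain ⟨u, hu⟩ := lab_surj (algebraMap F K β) c a
      rw [← hu]
      exact t5 u
    · refine even (1 + 5) (by decide) fun a => ?_
      obtain ⟨u, hu⟩ := lab_surj β 0 a
      rw [← hu]
      exact t6 u

variable (hQ : QR hφ g L β c) (hno : ¬ ∃ c0 : F, c0 * c0 + c0 = β)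

include hQ hno

/-- **The field case, `G₂`.** -/
theorem field_g2 (h1 : ∀ a, φ a = a) (E : Type*) [Field E] [Fintype E] (hE : Fintype.card E = Nat.card K ^ 2)
    (P : Sylow 2 ↥(chevG2.group E)) : Nonempty (UU V 1 ≃* (P : Subgroup ↥(chevG2.group E))) := by
  have hβ : ∀ c : F, c ^ 2 + c ≠ β := fun c e => hno ⟨c, by rw [← e, sq]⟩
  have := Fintype.ofFinite K
  obtain ⟨n, hn1, hn⟩ := FieldSyl.exists_pow hφ.two
  rw [Nat.card_eq_fintype_card, hn, ← pow_mul] at hE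
  have h2 : (2 : E) = 0 := FieldSyl.two_eq_zero hE
  have hE' : 2 < Fintype.card E := by
    rw [hE]
    calc 2 < 2 ^ 2 := by norm_num
      _ ≤ 2 ^ (n * 2) := Nat.pow_le_pow_right (by norm_num) (by omega)
  obtain ⟨W⟩ := exists_tr_one hφ hβ h1 E h2 (by rw [hE, Nat.card_eq_fintype_card, hn, ← pow_mul])
  obtain ⟨co⟩ := exists_coord hQ W
  obtain ⟨co'⟩ := FieldSyl.coord_g2 E h2 hE' P
  exact iso co co'

/-- **The field case, `³D₄`.** -/
theorem field_d4 {q : ℕ} (hq : Nat.card K = q ^ 3) (h1 : ∀ a, φ a = a ^ q) (E : Type*) [Field E] [Fintype E]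
    (hE : Fintype.card E = (q ^ 2) ^ 3) (P : Sylow 2 ↥(twistedD4 E (q ^ 2))) :
    Nonempty (UU V 1 ≃* (P : Subgroup ↥(twistedD4 E (q ^ 2)))) := by
  have hβ : ∀ c : F, c ^ 2 + c ≠ β := fun c e => hno ⟨c, by rw [← e, sq]⟩
  obtain ⟨m, rfl⟩ : ∃ m, q = 2 ^ m := by
    have := Fintype.ofFinite K
    obtain ⟨n, -, hn⟩ := FieldSyl.exists_pow hφ.two
    rw [← Nat.card_eq_fintype_card, hq] at hn
    have hd : q ∣ 2 ^ n := hn ▸ dvd_pow_self q (by norm_num)
    obtain ⟨m, -, hm⟩ := (Nat.dvd_prime_pow Nat.prime_two).1 hd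
    exact ⟨m, hm⟩
  have hE2 : Fintype.card E = (2 ^ (m * 2)) ^ 3 := by rw [hE, pow_mul]
  have h2 : (2 : E) = 0 := FieldSyl.two_eq_zero (n := m * 2 * 3) (by rw [hE2, ← pow_mul])
  obtain ⟨W⟩ := exists_tr_frob hφ hβ hq h1 (FieldSyl.pair h2 hE2) hE (fun a => by
    rw [FixedField.phi_apply, FieldSyl.frob_apply, pow_mul])
  obtain ⟨co⟩ := exists_coord hQ W
  have key : ∀ q', q' = 2 ^ (m * 2) → ∀ P : Sylow 2 ↥(twistedD4 E q'),
      Nonempty (UU V 1 ≃* (P : Subgroup ↥(twistedD4 E q'))) := by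
    rintro _ rfl P
    obtain ⟨co'⟩ := FieldSyl.coord_d4 h2 hE2 P
    exact iso co co'
  exact key _ (pow_mul 2 m 2).symm P

end

end Cfsg.Agent.HexRing.FieldFin
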