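import Cfsg.Agent.HexRing.FieldTr
import Cfsg.Agent.HexRec.FixedField
import Cfsg.Agent.Hexagon.G2End
import Cfsg.Agent.Hexagon.TwD4Par
import Cfsg.Agent.S1055
import Cfsg.Agent.S1059
import Cfsg.Agent.S1067
import Cfsg.Agent.S1071

/-!
# The field case: the Sylow 2-subgroups of the models, and the final statement

`coord_g2`, `coord_d4`: coordinates on the Sylow 2-subgroups of `G₂(F)`, `³D₄(q)`, `q` even.
`field_g2`, `field_d4`: a group with relations `QRel C β` (`β` not of the form `c² + c`) is isomorphic to them.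
-/

set_option autoImplicit false

namespace Cfsg.Agent.HexRing.FieldSyl

open Cfsg.Agent.HexRec Cfsg.Agent.HexRec.OfHexRel Cfsg.Agent.HexRing.Def Cfsg.Agent.Hex.Defs
open Cfsg.Agent.HexRing.Field Cfsg.Agent.HexRing.FieldTr Cfsg.Lie

theorem exists_ne {E : Type*} [Fintype E] [Field E] (h : 2 < Fintype.card E) : ∃ a : E, a ≠ 0 ∧ a ≠ 1 := by
  by_contra hne
  push Not at hne
  have h6 : Fintype.card E ≤ 2 := by
    classical
    have h7 : (Finset.univ : Finset E) ⊆ {0, 1} := by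
      intro a _
      by_cases ha : a = 0
      · simp [ha]
      · simp [hne a ha]
    exact (Finset.card_le_card h7).trans Finset.card_le_two
  omega

theorem exists_pow {E : Type*} [Fintype E] [Field E] (h : (2 : E) = 0) : ∃ n, 1 ≤ n ∧ Fintype.card E = 2 ^ n := by
  have hc : CharP E 2 := CharTwo.of_one_ne_zero_of_two_eq_zero one_ne_zero h
  obtain ⟨n, -, hn⟩ := FiniteField.card E 2
  exact ⟨n, n.2, hn⟩

theorem odd_sub {a : ℕ} (ha : 1 ≤ a) (n : ℕ) (hn : 1 ≤ n) : Odd ((2 ^ a) ^ n - 1) := by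
  have h : Even ((2 ^ a) ^ n) := by
    rw [← pow_mul]
    exact (even_two).pow_of_ne_zero (by positivity)
  have h1 : 1 ≤ (2 ^ a) ^ n := Nat.one_le_pow _ _ (by positivity)
  exact Nat.Even.sub_odd h1 h odd_one

/-- **`G₂`.** -/
theorem coord_g2 (E : Type*) [Field E] [Fintype E] (h2 : (2 : E) = 0) (hE : 2 < Fintype.card E)
    (P : Sylow 2 ↥(chevG2.group E)) :
    Nonempty (Coord (OfPair.cubic (OfPair.pair_one h2)) (P : Subgroup ↥(chevG2.group E))) := by
  obtain ⟨c, x1, x2, x3, x4, x5, x6, hpar, hgen, hU, -, -⟩ := Hexagon.G2End.exists_kside E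
  have := (Cfsg.Agent.S1055.result (exists_ne hE)).1
  obtain ⟨n, h1, hn⟩ := exists_pow h2
  have hcard := Cfsg.Agent.S1059.result (F := E) rfl
  have hne : Nat.card ↥(chevG2.group E) ≠ 0 := by
    rw [hcard, hn]
    have h3 := odd_sub h1 2 (by norm_num)
    have h4 := odd_sub h1 6 (by norm_num)
    have h5 : 0 < (2 ^ n) ^ 6 := by positivity
    exact mul_ne_zero (mul_ne_zero h5.ne' h3.pos.ne') h4.pos.ne'
  have : Finite ↥(chevG2.group E) := Nat.finite_of_card_ne_zero hne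
  refine Model.exists_coord (OfPair.pair_one h2) c hgen hU hpar P ⟨n * 6, ((2 ^ n) ^ 2 - 1) * ((2 ^ n) ^ 6 - 1), ?_, ?_, ?_⟩
  · rw [Nat.card_eq_fintype_card, hn, pow_mul]
    ring
  · rw [hcard, hn, pow_mul]
    ring
  · exact (odd_sub h1 2 (by norm_num)).mul (odd_sub h1 6 (by norm_num))

/-- the Frobenius map `a ↦ a ^ (2 ^ m)` -/
noncomputable def frob (E : Type*) [Field E] [Finite E] (h2 : (2 : E) = 0) (m : ℕ) : E ≃+* E :=
  haveI : CharP E 2 := CharTwo.of_one_ne_zero_of_two_eq_zero one_ne_zero h2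
  RingEquiv.ofBijective (iterateFrobenius E 2 m)
    (Finite.injective_iff_bijective.1 (iterateFrobenius E 2 m).injective)

theorem frob_apply (E : Type*) [Field E] [Finite E] (h2 : (2 : E) = 0) (m : ℕ) (a : E) :
    frob E h2 m a = a ^ 2 ^ m := by
  have : CharP E 2 := CharTwo.of_one_ne_zero_of_two_eq_zero one_ne_zero h2
  exact iterateFrobenius_def 2 m a

theorem two_eq_zero {E : Type*} [Field E] [Fintype E] {n : ℕ} (h : Fintype.card E = 2 ^ n) : (2 : E) = 0 := by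
  have h1 : ((Fintype.card E : ℕ) : E) = 0 := FiniteField.cast_card_eq_zero E
  rw [h, Nat.cast_pow] at h1
  exact_mod_cast eq_zero_of_pow_eq_zero h1

section d4

variable {E : Type*} [Field E] [Fintype E] (h2 : (2 : E) = 0) {m : ℕ} (hE : Fintype.card E = (2 ^ m) ^ 3)

include hE

theorem pos_m : 1 ≤ m := by
  by_contra h
  have h0 : m = 0 := by omega
  subst h0
  have h1 : 1 < Fintype.card E := Fintype.one_lt_card
  rw [hE] at h1
  norm_num at h1

theorem frob3 (a : E) : frob E h2 m (frob E h2 m (frob E h2 m a)) = a := by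
  rw [frob_apply, frob_apply, frob_apply, ← pow_mul, ← pow_mul]
  have h1 : 2 ^ m * (2 ^ m * 2 ^ m) = Fintype.card E := by rw [hE]; ring
  rw [h1, FiniteField.pow_card]

/-- the pair of the field with `(2 ^ m) ^ 3` elements -/
theorem pair : CubicPair (FixedField.phi (frob E h2 m)) := FixedField.cubicPair _ h2 (frob3 h2 hE)

theorem exists_frob_ne : ∃ t : E, frob E h2 m t ≠ t := by
  by_contra hcon
  push Not at hcon
  obtain ⟨g, hg⟩ := IsCyclic.exists_generator (α := Eˣ)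
  have h1 : orderOf g = Fintype.card E - 1 := by
    rw [orderOf_eq_card_of_forall_mem_zpowers hg, Nat.card_units, Nat.card_eq_fintype_card]
  have h3 := hcon (g : E)
  rw [frob_apply] at h3
  have h4 : g ^ 2 ^ m = g := Units.ext (by rw [Units.val_pow_eq_pow_val, h3])
  have hm := pos_m hE
  have h5 : 2 ≤ 2 ^ m := by
    calc 2 = 2 ^ 1 := by norm_num
      _ ≤ 2 ^ m := Nat.pow_le_pow_right (by norm_num) hm
  have h6 : g ^ (2 ^ m - 1) = 1 := by
    have h7 : g ^ (2 ^ m - 1) * g = 1 * g := by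
      rw [← pow_succ, Nat.sub_add_cancel (by omega), h4, one_mul]
    exact mul_right_cancel h7
  have h8 := Nat.le_of_dvd (by omega) (orderOf_dvd_of_pow_eq_one h6)
  rw [h1, hE] at h8
  have h9 : 2 ^ m < (2 ^ m) ^ 3 := by
    calc 2 ^ m = (2 ^ m) ^ 1 := by ring
      _ < (2 ^ m) ^ 3 := Nat.pow_lt_pow_right (by omega) (by norm_num)
  omega

theorem card_Fx : Nat.card (FixedField.Fx (frob E h2 m)) = 2 ^ m := by
  have h1 := FixedField.finrank_eq (frob E h2 m) (frob3 h2 hE) (exists_frob_ne h2 hE)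
  have h3 := Module.natCard_eq_pow_finrank (K := FixedField.Fx (frob E h2 m)) (V := E)
  rw [h1, Nat.card_eq_fintype_card, hE] at h3
  exact (Nat.pow_left_injective (by norm_num : 3 ≠ 0) h3).symm

/-- **`³D₄`.** -/
theorem coord_d4 (P : Sylow 2 ↥(twistedD4 E (2 ^ m))) :
    Nonempty (Coord (OfPair.cubic (pair h2 hE)) (P : Subgroup ↥(twistedD4 E (2 ^ m)))) := by
  have hm := pos_m hE
  have hpp : IsPrimePow (2 ^ m) := Nat.prime_two.isPrimePow.pow (by omega)
  obtain ⟨c, x1, x2, x3, x4, x5, x6, hpar, hgen, hU⟩ := Hexagon.TwD4Par.exists_kside hpp hE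
    (frob_apply E h2 m)
  have := (Cfsg.Agent.S1071.result hpp hE).1
  have hcard := Cfsg.Agent.S1067.result hpp hE
  have e1 := odd_sub hm 2 (by norm_num)
  have e2 := odd_sub hm 6 (by norm_num)
  have e3 : Odd ((2 ^ m) ^ 8 + (2 ^ m) ^ 4 + 1) := by
    have h5 : Even (2 ^ m) := (even_two).pow_of_ne_zero (by omega)
    have h6 : Even ((2 ^ m) ^ 8 + (2 ^ m) ^ 4) := (h5.pow_of_ne_zero (by norm_num)).add (h5.pow_of_ne_zero (by norm_num))
    exact h6.add_one
  have hne : Nat.card ↥(twistedD4 E (2 ^ m)) ≠ 0 := by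
    rw [hcard]
    have h5 : 0 < (2 ^ m) ^ 12 := by positivity
    exact mul_ne_zero (mul_ne_zero (mul_ne_zero h5.ne' e1.pos.ne') e2.pos.ne') e3.pos.ne'
  have : Finite ↥(twistedD4 E (2 ^ m)) := Nat.finite_of_card_ne_zero hne
  refine Model.exists_coord (pair h2 hE) c hgen hU (by rw [FixedField.phi_coe]; exact hpar) P
    ⟨m * 12, ((2 ^ m) ^ 2 - 1) * ((2 ^ m) ^ 6 - 1) * ((2 ^ m) ^ 8 + (2 ^ m) ^ 4 + 1), ?_, ?_, ?_⟩
  · rw [card_Fx h2 hE, Nat.card_eq_fintype_card, hE, pow_mul]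
    ring
  · rw [hcard, pow_mul]
    ring
  · exact (e1.mul e2).mul e3

end d4

/-! ### The final statements -/

section final

variable {F K : Type*} [Field F] [Field K] [Algebra F K] [Finite K] {φ : K ≃ₐ[F] K} (hφ : CubicPair φ)
  {β : F} (hβ : ∀ c : F, c ^ 2 + c ≠ β) {S : Type*} [Group S] {z1 : MQ K β → S} {z2 : RQ β → S} {z3 : MQ K β → S}
  {z4 : RQ β → S} {z5 : MQ K β → S} {z6 : RQ β → S} (S₀ : Subgroup S)
  (hinj : Function.Injective (PosRel.pm z1 z2 z3 z4 z5 z6))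
  (hS : ∀ g, g ∈ S₀ ↔ ∃ a, PosRel.pm z1 z2 z3 z4 z5 z6 a = g)
  (Q : QRel (OfPair.cubic hφ) β z1 z2 z3 z4 z5 z6)

include hβ hinj hS Q

/-- **The field case, `G₂`.** -/
theorem field_g2 (h1 : ∀ a, φ a = a) (E : Type*) [Field E] [Fintype E] (hE : Fintype.card E = Nat.card K ^ 2)
    (P : Sylow 2 ↥(chevG2.group E)) : Nonempty (S₀ ≃* (P : Subgroup ↥(chevG2.group E))) := by
  have := Fintype.ofFinite K
  obtain ⟨n, hn1, hn⟩ := exists_pow hφ.two
  rw [Nat.card_eq_fintype_card, hn, ← pow_mul] at hE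
  have h2 : (2 : E) = 0 := two_eq_zero hE
  have hE' : 2 < Fintype.card E := by
    rw [hE]
    calc 2 < 2 ^ 2 := by norm_num
      _ ≤ 2 ^ (n * 2) := Nat.pow_le_pow_right (by norm_num) (by omega)
  obtain ⟨W⟩ := exists_tr_one hφ hβ h1 E h2 (by rw [hE, Nat.card_eq_fintype_card, hn, ← pow_mul])
  obtain ⟨co⟩ := W.exists_coord S₀ hinj hS Q
  obtain ⟨co'⟩ := coord_g2 E h2 hE' P
  exact iso co co'

/-- **The field case, `³D₄`.** -/
theorem field_d4 {q : ℕ} (hq : Nat.card K = q ^ 3) (h1 : ∀ a, φ a = a ^ q) (E : Type*) [Field E] [Fintype E]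
    (hE : Fintype.card E = (q ^ 2) ^ 3) (P : Sylow 2 ↥(twistedD4 E (q ^ 2))) :
    Nonempty (S₀ ≃* (P : Subgroup ↥(twistedD4 E (q ^ 2)))) := by
  obtain ⟨m, rfl⟩ : ∃ m, q = 2 ^ m := by
    have := Fintype.ofFinite K
    obtain ⟨n, -, hn⟩ := exists_pow hφ.two
    rw [← Nat.card_eq_fintype_card, hq] at hn
    have hd : q ∣ 2 ^ n := hn ▸ dvd_pow_self q (by norm_num)
    obtain ⟨m, -, hm⟩ := (Nat.dvd_prime_pow Nat.prime_two).1 hd
    exact ⟨m, hm⟩
  have hE2 : Fintype.card E = (2 ^ (m * 2)) ^ 3 := by rw [hE, pow_mul]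
  have h2 : (2 : E) = 0 := two_eq_zero (n := m * 2 * 3) (by rw [hE2, ← pow_mul])
  obtain ⟨W⟩ := exists_tr_frob hφ hβ hq h1 (pair h2 hE2) hE (fun a => by
    rw [FixedField.phi_apply, frob_apply, pow_mul])
  obtain ⟨co⟩ := W.exists_coord S₀ hinj hS Q
  have key : ∀ q', q' = 2 ^ (m * 2) → ∀ P : Sylow 2 ↥(twistedD4 E q'),
      Nonempty (S₀ ≃* (P : Subgroup ↥(twistedD4 E q'))) := by
    rintro _ rfl P
    obtain ⟨co'⟩ := coord_d4 h2 hE2 P
    exact iso co co'
  exact key _ (pow_mul 2 m 2).symm P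

end final

end Cfsg.Agent.HexRing.FieldSyl
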