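import Cfsg.Agent.HexRing.Field
import Cfsg.Agent.HexRec.OfPair

/-!
# The field case: the quadratic extension of the cubic datum of `(K, φ)`

`tr_of`: an isomorphism `K' ≃ K[ω]` which carries `φ'` to `φ` (on the coordinates) or to its square gives `Tr`.
`exists_tr_one` (`φ = 1`), `exists_tr_frob` (`φ a = a ^ q`).
-/

set_option autoImplicit false

namespace Cfsg.Agent.HexRing.FieldTr

open Cfsg.Agent.HexRec Cfsg.Agent.HexRec.OfHexRel Cfsg.Agent.HexRing.Def Cfsg.Agent.Hex.Defs
open Cfsg.Agent.HexRing.Field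

variable {F K : Type*} [Field F] [Field K] [Algebra F K]

/-- `φ` on the coordinates -/
def mp (φ : K ≃ₐ[F] K) {β : F} (z : MQ K β) : MQ K β := ⟨φ z.re, φ z.im⟩

theorem incl_inj {β : F} : Function.Injective (incl K : RQ β → MQ K β) := by
  intro a b h
  have h1 := congrArg QuadraticAlgebra.re h
  have h2 := congrArg QuadraticAlgebra.im h
  exact QuadraticAlgebra.ext ((algebraMap F K).injective h1) ((algebraMap F K).injective h2)

theorem incl_add {β : F} (a b : RQ β) : incl K (a + b) = incl K a + incl K b := by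
  apply QuadraticAlgebra.ext
  · exact map_add (algebraMap F K) _ _
  · exact map_add (algebraMap F K) _ _

theorem incl_mul {β : F} (a b : RQ β) : incl K (a * b) = incl K a * incl K b := by
  apply QuadraticAlgebra.ext
  · simp [incl]
  · simp [incl]

section pair

variable {φ : K ≃ₐ[F] K} (hφ : CubicPair φ) {β : F}

include hφ

theorem mp_three (z : MQ K β) : mp φ (mp φ (mp φ z)) = z := QuadraticAlgebra.ext (hφ.three _) (hφ.three _)

theorem mem_incl {z : MQ K β} (h : mp φ z = z) : ∃ r : RQ β, incl K r = z := by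
  obtain ⟨a, ha⟩ := hφ.fixed _ (congrArg QuadraticAlgebra.re h)
  obtain ⟨b, hb⟩ := hφ.fixed _ (congrArg QuadraticAlgebra.im h)
  exact ⟨⟨a, b⟩, QuadraticAlgebra.ext ha hb⟩

omit hφ in
theorem mp_incl (r : RQ β) : mp φ (incl K r) = incl K r := QuadraticAlgebra.ext (φ.commutes _) (φ.commutes _)

theorem incl_tr (z : MQ K β) :
    incl K (⟨(OfPair.cubic hφ).tr z.re, (OfPair.cubic hφ).tr z.im⟩ : RQ β) = z + mp φ z + mp φ (mp φ z) := by
  apply QuadraticAlgebra.ext
  · exact algebraMap_tr hφ _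
  · exact algebraMap_tr hφ _

theorem shQ_eq (z : MQ K β) : shQ (OfPair.cubic hφ) z = mp φ z * mp φ (mp φ z) := by
  apply QuadraticAlgebra.ext
  · rw [QuadraticAlgebra.re_mul]
    change φ z.re * φ (φ z.re) + algebraMap F K β * (φ z.im * φ (φ z.im)) =
      φ z.re * φ (φ z.re) + algebraMap F K β * φ z.im * φ (φ z.im)
    ring
  · rw [QuadraticAlgebra.im_mul]
    change (OfPair.cubic hφ).cr z.re z.im + φ z.im * φ (φ z.im) =
      φ z.re * φ (φ z.im) + φ z.im * φ (φ z.re) + 1 * φ z.im * φ (φ z.im)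
    rw [OfPair.cubic_cr]
    unfold cr
    ring

end pair

variable {F' K' : Type*} [Field F'] [Field K'] [Algebra F' K']

/-- **The quadratic extension of the datum of `(K, φ)`.** -/
theorem tr_of {φ : K ≃ₐ[F] K} (hφ : CubicPair φ) {ψ : K' ≃ₐ[F'] K'} (hψ : CubicPair ψ) {β : F} (e : K' ≃+* MQ K β)
    (h : (∀ a, e (ψ a) = mp φ (e a)) ∨ ∀ a, e (ψ a) = mp φ (mp φ (e a))) :
    Nonempty (Tr (OfPair.cubic hφ) β (OfPair.cubic hψ)) := by
  have h2 : ∀ a, mp φ (e a) + mp φ (mp φ (e a)) = e (ψ a) + e (ψ (ψ a)) := by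
    intro a
    rcases h with h | h
    · rw [h, h, h]
    · rw [h, h, h, mp_three hφ, add_comm]
  have h3 : ∀ a, mp φ (e a) * mp φ (mp φ (e a)) = e (ψ a) * e (ψ (ψ a)) := by
    intro a
    rcases h with h | h
    · rw [h, h, h]
    · rw [h, h, h, mp_three hφ, mul_comm]
  have h4 : ∀ a, ψ a = a ↔ mp φ (e a) = e a := by
    intro a
    rw [← e.injective.eq_iff]
    rcases h with h | h
    · rw [h]
    · rw [h]
      constructor
      · intro h5
        have h6 := congrArg (mp φ) h5
        rw [mp_three hφ] at h6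
        exact h6.symm
      · intro h5
        rw [h5, h5]
  have h5 : ∀ f : F', ∃ r : RQ β, incl K r = e (algebraMap F' K' f) := fun f =>
    mem_incl hφ ((h4 _).1 (ψ.commutes f))
  choose eF heF using h5
  have hbij : Function.Bijective eF := by
    constructor
    · intro a b hab
      apply (algebraMap F' K').injective
      apply e.injective
      rw [← heF, ← heF, hab]
    · intro r
      obtain ⟨z, hz⟩ := e.surjective (incl K r)
      obtain ⟨f, hf⟩ := hψ.fixed z ((h4 z).2 (by rw [hz, mp_incl]))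
      refine ⟨f, incl_inj (K := K) ?_⟩
      rw [heF, hf, hz]
  refine ⟨⟨e, { Equiv.ofBijective eF hbij with
    map_mul' := fun a b => ?_
    map_add' := fun a b => ?_ }, fun f => heF f, fun a => ?_, fun a => ?_⟩⟩
  · apply incl_inj (K := K)
    change incl K (eF (a * b)) = incl K (eF a * eF b)
    rw [heF, incl_mul, heF, heF, map_mul, map_mul]
  · apply incl_inj (K := K)
    change incl K (eF (a + b)) = incl K (eF a + eF b)
    rw [heF, incl_add, heF, heF, map_add, map_add]
  · apply incl_inj (K := K)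
    change incl K (eF _) = _
    rw [heF, incl_tr hφ, add_assoc, h2, ← map_add, ← map_add, ← add_assoc]
    congr 1
    exact algebraMap_tr hψ _
  · rw [shQ_eq, h3, ← map_mul]
    rfl

/-! ### The two cases -/

section cases

theorem card_QA {k : Type*} [Field k] [Finite k] (a b : k) : Nat.card (QuadraticAlgebra k a b) = Nat.card k ^ 2 := by
  rw [Nat.card_congr (QuadraticAlgebra.equivProd a b), Nat.card_prod, sq]

theorem finite_QA {k : Type*} [Field k] [Finite k] (a b : k) : Finite (QuadraticAlgebra k a b) :=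
  Finite.of_equiv _ (QuadraticAlgebra.equivProd a b).symm

variable {φ : K ≃ₐ[F] K} (hφ : CubicPair φ) {β : F} (hβ : ∀ c : F, c ^ 2 + c ≠ β)

include hφ hβ in
theorem fact : Fact (∀ r : K, r ^ 2 ≠ algebraMap F K β + 1 * r) := by
  have two := hφ.two
  refine ⟨fun r hr => ?_⟩
  have h1 : φ r ^ 2 = algebraMap F K β + φ r := by
    have := congrArg φ hr
    simpa using this
  -- `φ r = r` or `φ r = r + 1`
  have h2 : (φ r + r) * (φ r + r + 1) = 0 := by
    rw [one_mul] at hr
    linear_combination h1 + hr + (r * φ r + φ r + r + algebraMap F K β) * two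
  have h3 : φ r = r := by
    rcases mul_eq_zero.1 h2 with h | h
    · linear_combination h - r * two
    · exfalso
      have h4 : φ r = r + 1 := by linear_combination h - (r + 1) * two
      have h5 := hφ.three r
      simp only [h4, map_add, map_one] at h5
      exact one_ne_zero (α := K) (by linear_combination h5 - two)
  obtain ⟨c, rfl⟩ := hφ.fixed r h3
  apply hβ c
  apply (algebraMap F K).injective
  rw [map_add, map_pow]
  rw [one_mul] at hr
  linear_combination hr + algebraMap F K c * two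

include hβ in
/-- **`G₂`: `φ = 1`.** -/
theorem exists_tr_one [Finite K] (h1 : ∀ a, φ a = a) (K' : Type*) [Field K'] [Fintype K'] (h2 : (2 : K') = 0)
    (hcard : Fintype.card K' = Nat.card K ^ 2) :
    Nonempty (Tr (OfPair.cubic hφ) β (OfPair.cubic (OfPair.pair_one h2))) := by
  have := fact hφ hβ
  have := finite_QA (algebraMap F K β) 1
  have := Fintype.ofFinite (MQ K β)
  let e : K' ≃+* MQ K β := FiniteField.ringEquivOfCardEq (by rw [hcard, ← Nat.card_eq_fintype_card, card_QA])
  exact tr_of hφ _ e (Or.inl fun a => QuadraticAlgebra.ext (h1 _).symm (h1 _).symm)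

include hβ in
/-- **`³D₄`: `φ a = a ^ q`.** -/
theorem exists_tr_frob [Finite K] {q : ℕ} (hq : Nat.card K = q ^ 3) (h1 : ∀ a, φ a = a ^ q)
    [Fintype K'] {ψ : K' ≃ₐ[F'] K'} (hψ : CubicPair ψ) (hcard : Fintype.card K' = (q ^ 2) ^ 3)
    (h2 : ∀ a, ψ a = a ^ (q ^ 2)) :
    Nonempty (Tr (OfPair.cubic hφ) β (OfPair.cubic hψ)) := by
  have := fact hφ hβ
  have := finite_QA (algebraMap F K β) 1
  have := Fintype.ofFinite (MQ K β)
  have hc : CharP K 2 := CharTwo.of_one_ne_zero_of_two_eq_zero one_ne_zero hφ.two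
  have h2M : (2 : MQ K β) = 0 := by
    apply QuadraticAlgebra.ext
    · change ((2 : ℕ) : K) = 0
      exact_mod_cast hφ.two
    · rfl
  have hcM : CharP (MQ K β) 2 := CharTwo.of_one_ne_zero_of_two_eq_zero one_ne_zero h2M
  obtain ⟨m, rfl⟩ : ∃ m, q = 2 ^ m := by
    have := Fintype.ofFinite K
    obtain ⟨n, -, hn⟩ := FiniteField.card K 2
    rw [← Nat.card_eq_fintype_card, hq] at hn
    have hd : q ∣ 2 ^ (n : ℕ) := hn ▸ dvd_pow_self q (by norm_num)
    obtain ⟨m, -, hm⟩ := (Nat.dvd_prime_pow Nat.prime_two).1 hd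
    exact ⟨m, hm⟩
  let e : K' ≃+* MQ K β := FiniteField.ringEquivOfCardEq (by
    rw [hcard, ← Nat.card_eq_fintype_card, card_QA, hq]; ring)
  refine tr_of hφ hψ e (Or.inr fun a => ?_)
  rw [h2, map_pow]
  -- the `q`-th power map
  have hadd : ∀ x y : MQ K β, (x + y) ^ (2 ^ m) = x ^ (2 ^ m) + y ^ (2 ^ m) := fun x y => add_pow_char_pow x y 2 m
  let ω : MQ K β := ⟨0, 1⟩
  have hω : ω * ω = algebraMap K (MQ K β) (algebraMap F K β) + ω := by
    apply QuadraticAlgebra.ext <;> simp [ω]
  have hdec : ∀ z : MQ K β, z = algebraMap K _ z.re + algebraMap K _ z.im * ω := by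
    intro z
    apply QuadraticAlgebra.ext <;> simp [ω]
  have hw : (ω ^ (2 ^ m)) * (ω ^ (2 ^ m)) = algebraMap K (MQ K β) (algebraMap F K β) + ω ^ (2 ^ m) := by
    rw [← mul_pow, hω, hadd, ← map_pow, ← h1, φ.commutes]
  have hw2 : ω ^ (2 ^ m) = ω ∨ ω ^ (2 ^ m) = ω + 1 := by
    have h3 : (ω ^ (2 ^ m) + ω) * (ω ^ (2 ^ m) + ω + 1) = 0 := by
      linear_combination hw + hω + (ω * ω ^ (2 ^ m) + ω ^ (2 ^ m) + ω +
        algebraMap K (MQ K β) (algebraMap F K β)) * h2M
    rcases mul_eq_zero.1 h3 with h | h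
    · left; linear_combination h - ω * h2M
    · right; linear_combination h - (ω + 1) * h2M
  have hw3 : (ω ^ (2 ^ m)) ^ (2 ^ m) = ω := by
    rcases hw2 with h | h
    · rw [h, h]
    · rw [h, hadd, h, one_pow]
      linear_combination h2M
  rw [sq (2 ^ m), pow_mul]
  conv_lhs => rw [hdec (e a)]
  rw [hadd, hadd, mul_pow, mul_pow, hw3, ← map_pow, ← map_pow, ← map_pow, ← map_pow, ← h1, ← h1, ← h1, ← h1]
  exact (hdec (mp φ (mp φ (e a)))).symm

end cases

end Cfsg.Agent.HexRing.FieldTr
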