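import Cfsg.Agent.HexRing.Def

/-!
# The ring of a grown hexagonal 2-group: the functional equations

`FSys` : the structure functions of the commutator relations, abstractly; the theorems below determine all of them.
-/

set_option autoImplicit false

namespace Cfsg.Agent.HexRing.Fun

open Cfsg.Agent.HexRec Cfsg.Agent.HexRing.Def

/-- the structure functions -/
structure FSys {F K : Type*} [Field F] [Field K] [Algebra F K] (C : Cubic F K) (R M : Type*) [AddCommGroup R]
    [Module F R] [AddCommGroup M] [Module K M] where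
  one : R
  e : R
  uno : M
  tR : R → R
  tM : M → M
  tR_add : ∀ a b, tR (a + b) = tR a + tR b
  tR_smul : ∀ (l : F) a, tR (l • a) = l • tR a
  tR_one : tR one = one
  tR_e : tR e = e + one
  tM_add : ∀ a b, tM (a + b) = tM a + tM b
  tM_smul : ∀ (l : K) a, tM (l • a) = l • tM a
  tM_uno : tM uno = uno
  tM_tM : ∀ a, tM (tM a) = a
  decR : ∀ r, ∃ a b : F, r = a • one + b • e
  freeR : ∀ a b : F, a • one + b • e = 0 → a = 0 ∧ b = 0
  fixM : ∀ m, tM m = m → ∃ k : K, m = k • uno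
  freeM : ∀ k : K, k • uno = 0 → k = 0
  T : M → M → R
  o : R → R → R
  D : M → R → M
  X : M → M → M
  P : M → M → R
  A : M → R → R
  B : M → R → M
  G : M → R → R
  T_add : ∀ a a' b, T (a + a') b = T a b + T a' b
  T_symm : ∀ a b, T a b = T b a
  T_K : ∀ (k : K) a b, T (k • a) b = T a (k • b)
  T_F : ∀ (l : F) a b, T (algebraMap F K l • a) b = l • T a b
  T_uno : ∀ k l : K, T (k • uno) (l • uno) = C.T k l • one
  T_t : ∀ a b, T (tM a) (tM b) = tR (T a b)
  o_addL : ∀ s s' u, o (s + s') u = o s u + o s' u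
  o_addR : ∀ s u u', o s (u + u') = o s u + o s u'
  o_oneL : ∀ u, o one u = u
  o_oneR : ∀ s, o s one = s
  o_t : ∀ s u, o (tR s) (tR u) = tR (o s u)
  D_addL : ∀ a a' u, D (a + a') u = D a u + D a' u
  D_addR : ∀ a u u', D a (u + u') = D a u + D a u'
  D_smul : ∀ (k : K) (l : F) a u, D (k • a) (l • u) = (k * algebraMap F K l) • D a u
  D_one : ∀ a, D a one = a
  D_t : ∀ a u, D (tM a) (tR u) = tM (D a u)
  H1 : ∀ a u b, T (D a u) b = o (T a b) u
  X_addL : ∀ a a' b, X (a + a') b = X a b + X a' b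
  X_symm : ∀ a b, X a b = X b a
  X_uno : ∀ k l : K, X (k • uno) (l • uno) = C.cr k l • uno
  P_addL : ∀ a a' b, P (a + a') b = P a b + P a' b + T a' (X a b)
  H2 : ∀ a b u, o (P a b) u = T (X a b) (D a u) + T (B a u) b
  A_addR : ∀ a u u', A a (u + u') = A a u + A a u'
  G_addR : ∀ a u u', G a (u + u') = G a u + G a u' + o (A a u) u' + T (D a u') (B a u)
  B_addL : ∀ a a' u, B (a + a') u = B a u + B a' u + X a' (D a u)
  G_addL : ∀ a a' u, G (a + a') u = G a u + G a' u + P (D a u) a' + T (D a u) (B a' u)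
  B_smul : ∀ (k : K) a u, B (k • a) u = C.sh k • B a u
  B_uno : B uno one = uno
  B_t : ∀ a u, B (tM a) (tR u) = tM (B a u)
  G_smul : ∀ (k : K) a u, G (k • a) u = C.N k • G a u

namespace FSys

variable {F K : Type*} [Field F] [Field K] [Algebra F K] {C : Cubic F K} {R M : Type*} [AddCommGroup R]
    [Module F R] [AddCommGroup M] [Module K M] (Z : FSys C R M)

include C in
omit M in
theorem twoR (r : R) : r + r = 0 := by
  rw [← two_smul F, C.two_F, zero_smul]

include C in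
omit R in
theorem twoM (r : M) : r + r = 0 := by
  rw [← two_smul K, C.two_K, zero_smul]

include C in
omit M in
theorem addR_eq {a b c : R} (h : a + b = c) : a = c + b := by
  rw [← h, add_assoc, twoR (C := C) (F := F) b, add_zero]

include C in
omit R in
theorem addM_eq {a b c : M} (h : a + b = c) : a = c + b := by
  rw [← h, add_assoc, twoM (C := C) (F := F) b, add_zero]

/-! ### Bilinearity of `T` -/

theorem T_addR (a b b' : M) : Z.T a (b + b') = Z.T a b + Z.T a b' := by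
  rw [Z.T_symm, Z.T_add, Z.T_symm b, Z.T_symm b']

theorem T_FR (l : F) (a b : M) : Z.T a (algebraMap F K l • b) = l • Z.T a b := by
  rw [← Z.T_K, Z.T_F]

theorem T_zeroL (b : M) : Z.T 0 b = 0 := by
  have := Z.T_add 0 0 b
  rw [add_zero] at this
  exact left_eq_add.1 this

theorem T_zeroR (b : M) : Z.T b 0 = 0 := by rw [Z.T_symm, Z.T_zeroL]

theorem o_zeroL (u : R) : Z.o 0 u = 0 := by
  have := Z.o_addL 0 0 u
  rw [add_zero] at this
  exact left_eq_add.1 this

theorem o_zeroR (u : R) : Z.o u 0 = 0 := by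
  have := Z.o_addR u 0 0
  rw [add_zero] at this
  exact left_eq_add.1 this

theorem D_zeroL (u : R) : Z.D 0 u = 0 := by
  have := Z.D_addL 0 0 u
  rw [add_zero] at this
  exact left_eq_add.1 this

theorem D_zeroR (a : M) : Z.D a 0 = 0 := by
  have := Z.D_addR a 0 0
  rw [add_zero] at this
  exact left_eq_add.1 this

theorem X_zeroL (u : M) : Z.X 0 u = 0 := by
  have := Z.X_addL 0 0 u
  rw [add_zero] at this
  exact left_eq_add.1 this

theorem X_addR (a b b' : M) : Z.X a (b + b') = Z.X a b + Z.X a b' := by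
  rw [Z.X_symm, Z.X_addL, Z.X_symm b, Z.X_symm b']

/-- the generator of `M` over `K` -/
def f : M := Z.D Z.uno Z.e

theorem D_uno_smul (k : K) (l : F) (u : R) : Z.D (k • Z.uno) (l • u) = (k * algebraMap F K l) • Z.D Z.uno u :=
  Z.D_smul _ _ _ _

theorem D_smulL (k : K) (a : M) (u : R) : Z.D (k • a) u = k • Z.D a u := by
  have := Z.D_smul k 1 a u
  rwa [one_smul, map_one, mul_one] at this

theorem D_smulR (l : F) (a : M) (u : R) : Z.D a (l • u) = algebraMap F K l • Z.D a u := by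
  have := Z.D_smul 1 l a u
  rwa [one_smul, one_mul] at this

theorem tM_f : Z.tM Z.f = Z.f + Z.uno := by
  unfold f
  rw [← Z.D_t, Z.tM_uno, Z.tR_e, Z.D_addR, Z.D_one]

theorem decM (m : M) : ∃ k l : K, m = k • Z.uno + l • Z.f := by
  obtain ⟨l, hl⟩ := Z.fixM (Z.tM m + m) (by rw [Z.tM_add, Z.tM_tM, add_comm])
  have h1 : Z.tM m = l • Z.uno + m := addM_eq (C := C) (F := F) hl
  obtain ⟨k, hk⟩ := Z.fixM (m + l • Z.f) (by
    rw [Z.tM_add, Z.tM_smul, Z.tM_f, smul_add, h1]
    have h2 := twoM (C := C) (F := F) (l • Z.uno)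
    calc l • Z.uno + m + (l • Z.f + l • Z.uno) = m + l • Z.f + (l • Z.uno + l • Z.uno) := by abel
      _ = m + l • Z.f := by rw [h2, add_zero])
  exact ⟨k, l, addM_eq (C := C) (F := F) hk⟩

theorem nondeg {a : M} (h : ∀ b, Z.T a b = 0) : a = 0 := by
  obtain ⟨l, hl⟩ := Z.fixM (Z.tM a + a) (by rw [Z.tM_add, Z.tM_tM, add_comm])
  have h1 : ∀ b : K, Z.T (Z.tM a) (b • Z.uno) = 0 := fun b => by
    have h2 := Z.T_t a (b • Z.uno)
    rw [h, Z.tM_smul, Z.tM_uno] at h2
    rw [h2]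
    have h3 := Z.tR_smul 0 0
    rwa [zero_smul, zero_smul] at h3
  have h2 : l = 0 := by
    apply C.T_nondeg
    intro b
    have h3 : Z.T (Z.tM a + a) (b • Z.uno) = 0 := by rw [Z.T_add, h1, h, add_zero]
    rw [hl, Z.T_uno] at h3
    exact (Z.freeR _ 0 (by rw [h3, zero_smul, add_zero])).1
  rw [h2, zero_smul] at hl
  have h3 : Z.tM a = a := by
    have := addM_eq (C := C) (F := F) hl
    rwa [zero_add] at this
  obtain ⟨k, hk⟩ := Z.fixM a h3
  have h4 : k = 0 := by
    apply C.T_nondeg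
    intro b
    have h5 := h (b • Z.uno)
    rw [hk, Z.T_uno] at h5
    exact (Z.freeR _ 0 (by rw [h5, zero_smul, add_zero])).1
  rw [hk, h4, zero_smul]

theorem T_ext {a a' : M} (h : ∀ b, Z.T a b = Z.T a' b) : a = a' := by
  have h1 : a + a' = 0 := Z.nondeg fun b => by rw [Z.T_add, h, twoR (C := C) (F := F)]
  have := addM_eq (C := C) (F := F) h1
  rwa [zero_add] at this

theorem T_uno_f : Z.T Z.uno Z.f = Z.e := by
  rw [Z.T_symm]
  unfold f
  have h1 := Z.T_uno 1 1
  rw [one_smul, show C.T 1 1 = 1 by unfold Cubic.T; rw [mul_one, C.tr_one], one_smul] at h1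
  rw [Z.H1, h1, Z.o_oneL]

/-- every `r` is `T (uno, b)` -/
theorem exists_T (r : R) : ∃ b, r = Z.T Z.uno b := by
  obtain ⟨a, b, rfl⟩ := Z.decR r
  refine ⟨algebraMap F K a • Z.uno + algebraMap F K b • Z.f, ?_⟩
  have h1 := Z.T_uno 1 1
  rw [one_smul, show C.T 1 1 = 1 by unfold Cubic.T; rw [mul_one, C.tr_one], one_smul] at h1
  rw [Z.T_addR, Z.T_FR, Z.T_FR, Z.T_uno_f, h1]

theorem o_smulL (l : F) (s u : R) : Z.o (l • s) u = l • Z.o s u := by
  obtain ⟨b, rfl⟩ := Z.exists_T s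
  rw [← Z.T_FR, ← Z.H1, Z.T_FR, Z.H1]

theorem o_smulR (l : F) (s u : R) : Z.o s (l • u) = l • Z.o s u := by
  obtain ⟨b, rfl⟩ := Z.exists_T s
  rw [← Z.H1, Z.D_smulR, Z.T_F, Z.H1]

/-- the ring structure of `R` -/
theorem exists_beta : ∃ β : F, Z.o Z.e Z.e = β • Z.one + Z.e := by
  obtain ⟨β, a, h⟩ := Z.decR (Z.o Z.e Z.e)
  have h1 := Z.o_t Z.e Z.e
  rw [Z.tR_e, h, Z.o_addL, Z.o_addR, Z.o_addR, Z.o_oneL, Z.o_oneR, Z.o_oneL, h, Z.tR_add, Z.tR_smul, Z.tR_smul,
    Z.tR_one, Z.tR_e] at h1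
  have h2 := twoR (C := C) (F := F) Z.e
  have h3 : Z.one = a • Z.one := by
    have h4 : β • Z.one + a • Z.e + Z.e + (Z.e + Z.one) = β • Z.one + a • Z.e + Z.one := by
      calc β • Z.one + a • Z.e + Z.e + (Z.e + Z.one) = β • Z.one + a • Z.e + (Z.e + Z.e) + Z.one := by abel
        _ = _ := by rw [h2, add_zero]
    rw [h4, smul_add, ← add_assoc] at h1
    exact add_left_cancel h1
  have h5 : a = 1 := by
    have h6 : (1 - a) • Z.one + (0 : F) • Z.e = 0 := by
      rw [sub_smul, one_smul, ← h3, sub_self, zero_smul, add_zero]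
    have := (Z.freeR _ _ h6).1
    exact (sub_eq_zero.1 this).symm
  exact ⟨β, by rw [h, h5, one_smul]⟩

end FSys

end Cfsg.Agent.HexRing.Fun
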