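import Cfsg.Agent.HexRing.Fun

/-!
# The ring of a grown hexagonal 2-group: the functional equations, second part

The structure functions of an `FSys` are those of the quadratic extension `K[ω]/F[ω]`.
-/

set_option autoImplicit false

namespace Cfsg.Agent.HexRing.Fun2

open Cfsg.Agent.HexRec Cfsg.Agent.HexRing.Def Cfsg.Agent.HexRing.Fun Cfsg.Agent.HexRing.Fun.FSys

variable {F K : Type*} [Field F] [Field K] [Algebra F K] {C : Cubic F K} {R M : Type*} [AddCommGroup R]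
    [Module F R] [AddCommGroup M] [Module K M] (Z : FSys C R M) {β : F}

/-- `F[ω] → R` -/
def thR (r : RQ β) : R := r.re • Z.one + r.im • Z.e

/-- `K[ω] → M` -/
def thM (m : MQ K β) : M := m.re • Z.uno + m.im • Z.f

theorem thR_add (r s : RQ β) : thR Z (r + s) = thR Z r + thR Z s := by
  unfold thR
  rw [QuadraticAlgebra.re_add, QuadraticAlgebra.im_add, add_smul, add_smul]
  abel

theorem thM_add (r s : MQ K β) : thM Z (r + s) = thM Z r + thM Z s := by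
  unfold thM
  rw [QuadraticAlgebra.re_add, QuadraticAlgebra.im_add, add_smul, add_smul]
  abel

theorem thR_surj (r : R) : ∃ s : RQ β, thR Z s = r := by
  obtain ⟨a, b, rfl⟩ := Z.decR r
  exact ⟨⟨a, b⟩, rfl⟩

theorem thM_surj (r : M) : ∃ s : MQ K β, thM Z s = r := by
  obtain ⟨a, b, rfl⟩ := Z.decM r
  exact ⟨⟨a, b⟩, rfl⟩

variable (hβ : Z.o Z.e Z.e = β • Z.one + Z.e)

include hβ

theorem thR_mul (r s : RQ β) : thR Z (r * s) = Z.o (thR Z r) (thR Z s) := by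
  unfold thR
  simp only [Z.o_addL, Z.o_addR, Z.o_smulL, Z.o_smulR, Z.o_oneL, Z.o_oneR, hβ, QuadraticAlgebra.re_mul,
    QuadraticAlgebra.im_mul]
  module

theorem o_comm (r s : R) : Z.o r s = Z.o s r := by
  obtain ⟨r, rfl⟩ := thR_surj Z (β := β) r
  obtain ⟨s, rfl⟩ := thR_surj Z (β := β) s
  rw [← thR_mul Z hβ, ← thR_mul Z hβ, mul_comm]

theorem o_assoc (r s u : R) : Z.o (Z.o r s) u = Z.o r (Z.o s u) := by
  obtain ⟨r, rfl⟩ := thR_surj Z (β := β) r
  obtain ⟨s, rfl⟩ := thR_surj Z (β := β) s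
  obtain ⟨u, rfl⟩ := thR_surj Z (β := β) u
  rw [← thR_mul Z hβ, ← thR_mul Z hβ, ← thR_mul Z hβ, ← thR_mul Z hβ, mul_assoc]

theorem D_D (a : M) (u v : R) : Z.D (Z.D a u) v = Z.D a (Z.o u v) := by
  apply Z.T_ext
  intro b
  rw [Z.H1, Z.H1, Z.H1, o_assoc Z hβ]

theorem D_f_e : Z.D Z.f Z.e = algebraMap F K β • Z.uno + Z.f := by
  unfold FSys.f
  rw [D_D Z hβ, hβ, Z.D_addR, Z.D_smulR, Z.D_one]

theorem D_th (m : MQ K β) (r : RQ β) : Z.D (thM Z m) (thR Z r) = thM Z (incl K r * m) := by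
  unfold thM thR incl
  have h1 : Z.D Z.uno Z.e = Z.f := rfl
  simp only [Z.D_addL, Z.D_addR, Z.D_smulL, Z.D_smulR, Z.D_one, h1, D_f_e Z hβ, QuadraticAlgebra.re_mul,
    QuadraticAlgebra.im_mul]
  module

omit hβ in
theorem T_f (k l : K) : Z.T (k • Z.f) (l • Z.uno) = C.T k l • Z.e := by
  have h1 : k • Z.f = Z.D (k • Z.uno) Z.e := by rw [Z.D_smulL]; rfl
  rw [h1, Z.H1, Z.T_uno, Z.o_smulL, Z.o_oneL]

theorem T_ff (k l : K) : Z.T (k • Z.f) (l • Z.f) = C.T k l • (β • Z.one + Z.e) := by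
  have h1 : k • Z.f = Z.D (k • Z.uno) Z.e := by rw [Z.D_smulL]; rfl
  rw [h1, Z.H1, Z.T_symm, T_f Z, Z.o_smulL, hβ, C.T_comm]

theorem T_th (m n : MQ K β) : Z.T (thM Z m) (thM Z n) = thR Z (TQ C m n) := by
  unfold thM thR TQ
  rw [Z.T_add, Z.T_addR, Z.T_addR, Z.T_uno, T_f Z, T_ff Z hβ, Z.T_symm (m.re • Z.uno), T_f Z]
  have e1 : C.tr (m * n).re = C.T m.re n.re + β * C.T m.im n.im := by
    rw [QuadraticAlgebra.re_mul, map_add]
    unfold Cubic.T
    rw [← smul_eq_mul β, ← map_smul, Algebra.smul_def, mul_assoc]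
  have e2 : C.tr (m * n).im = C.T m.re n.im + C.T m.im n.re + C.T m.im n.im := by
    rw [QuadraticAlgebra.im_mul, map_add, map_add, one_mul]
    rfl
  dsimp only
  rw [e1, e2, C.T_comm n.im]
  module

/-! ### the quadratic map -/

omit hβ in
theorem P_zero (b : M) : Z.P 0 b = 0 := by
  have h1 := Z.P_addL 0 0 b
  rw [Z.T_zeroL, add_zero, add_zero, twoR (C := C) (F := F)] at h1
  exact h1

omit hβ in
theorem T_X_self (a b : M) : Z.T a (Z.X a b) = 0 := by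
  have h1 := Z.P_addL a a b
  rwa [twoM (C := C) (F := F), P_zero, twoR (C := C) (F := F), zero_add, eq_comm] at h1

omit hβ in
theorem P_eq (a b : M) : Z.P a b = Z.T (Z.B a Z.one) b := by
  have h1 := Z.H2 a b Z.one
  rwa [Z.o_oneR, Z.D_one, Z.T_symm (Z.X a b), T_X_self, zero_add] at h1

omit hβ in
theorem B_eq (a : M) (u : R) : Z.B a u = Z.D (Z.B a Z.one) u := by
  apply Z.T_ext
  intro b
  have h1 := Z.H2 a b u
  rw [Z.T_symm (Z.X a b), Z.H1, T_X_self, Z.o_zeroL, zero_add, P_eq] at h1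
  rw [← h1, Z.H1]

omit hβ in
/-- polarisation of `#` -/
theorem sharp_add (a a' : M) : Z.B (a + a') Z.one = Z.B a Z.one + Z.B a' Z.one + Z.X a' a := by
  rw [Z.B_addL, Z.D_one]

omit hβ in
theorem X_DR (a a' : M) (u : R) : Z.X a' (Z.D a u) = Z.D (Z.X a' a) u := by
  have h1 := Z.B_addL a a' u
  rw [B_eq Z (a + a'), B_eq Z a u, B_eq Z a' u, sharp_add, Z.D_addL, Z.D_addL] at h1
  exact (add_left_cancel h1).symm

omit hβ in
theorem X_DL (a a' : M) (u : R) : Z.X (Z.D a u) a' = Z.D (Z.X a a') u := by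
  rw [Z.X_symm, X_DR, Z.X_symm]

theorem X_th (m n : MQ K β) : Z.X (thM Z m) (thM Z n) = thM Z (crQ C m n) := by
  have h1 : ∀ k : K, k • Z.f = Z.D (k • Z.uno) Z.e := fun k => by rw [Z.D_smulL]; rfl
  have h2 : ∀ k l : K, Z.X (k • Z.f) (l • Z.uno) = C.cr k l • Z.f := fun k l => by
    rw [h1, X_DL, Z.X_uno, ← h1]
  have h3 : ∀ k l : K, Z.X (k • Z.f) (l • Z.f) = C.cr k l • (algebraMap F K β • Z.uno + Z.f) := fun k l => by
    rw [h1 l, X_DR, h2, Z.D_smulL, D_f_e Z hβ]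
  unfold thM crQ
  rw [Z.X_addL, Z.X_addR, Z.X_addR, Z.X_uno, h2, h3, Z.X_symm (m.re • Z.uno), h2, C.cr_comm n.im]
  module

end Cfsg.Agent.HexRing.Fun2
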