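import Cfsg.Agent.HexRing.Fun2

/-!
# The ring of a grown hexagonal 2-group: the functional equations, third part

The adjoint, the norm and the remaining structure functions.
-/

set_option autoImplicit false

namespace Cfsg.Agent.HexRing.Fun3

open Cfsg.Agent.HexRec Cfsg.Agent.HexRing.Def Cfsg.Agent.HexRing.Fun Cfsg.Agent.HexRing.Fun.FSys
  Cfsg.Agent.HexRing.Fun2

variable {F K : Type*} [Field F] [Field K] [Algebra F K] {C : Cubic F K} {R M : Type*} [AddCommGroup R]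
    [Module F R] [AddCommGroup M] [Module K M] (Z : FSys C R M) {β : F}

theorem sharp_zero : Z.B 0 Z.one = 0 := by
  have h1 := sharp_add Z 0 0
  rwa [add_zero, Z.X_zeroL, add_zero, twoM (C := C) (F := F)] at h1

theorem X_self (a : M) : Z.X a a = 0 := by
  have h1 := sharp_add Z a a
  rwa [twoM (C := C) (F := F), sharp_zero, twoM (C := C) (F := F), zero_add, eq_comm] at h1

theorem X_uno_f : Z.X Z.uno Z.f = 0 := by
  unfold FSys.f
  rw [X_DR, X_self, Z.D_zeroL]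

theorem sharp_f_aux : ∃ s : K, Z.B Z.f Z.one = s • Z.uno + Z.f := by
  obtain ⟨s, s1, h⟩ := Z.decM (Z.B Z.f Z.one)
  have h1 := Z.B_t Z.f Z.one
  rw [Z.tM_f, Z.tR_one, sharp_add, X_uno_f, add_zero, Z.B_uno, h, Z.tM_add, Z.tM_smul, Z.tM_smul, Z.tM_uno, Z.tM_f,
    smul_add, ← add_assoc] at h1
  have h2 : Z.uno = s1 • Z.uno := add_left_cancel h1
  have h3 : s1 = 1 := by
    have h4 := Z.freeM (1 - s1) (by rw [sub_smul, one_smul, ← h2, sub_self])
    exact (sub_eq_zero.1 h4).symm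
  exact ⟨s, by rw [h, h3, one_smul]⟩

section

variable (hβ : Z.o Z.e Z.e = β • Z.one + Z.e)

include hβ

theorem T_DD (a b : M) (u : R) : Z.T (Z.D a u) (Z.D b u) = Z.o (Z.T b a) (Z.o u u) := by
  rw [Z.H1, Z.T_symm, Z.H1, o_assoc Z hβ]

theorem G_addL' (a a' : M) (u : R) : Z.G (a + a') u = Z.G a u + Z.G a' u + Z.T (Z.B (Z.D a u) Z.one) a' +
    Z.o (Z.T (Z.B a' Z.one) a) (Z.o u u) := by
  rw [Z.G_addL, P_eq, B_eq Z a' u, T_DD Z hβ]

theorem sym (a a' : M) (u : R) : Z.T (Z.B (Z.D a u) Z.one) a' + Z.o (Z.T (Z.B a' Z.one) a) (Z.o u u) =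
    Z.T (Z.B (Z.D a' u) Z.one) a + Z.o (Z.T (Z.B a Z.one) a') (Z.o u u) := by
  have h1 := G_addL' Z hβ a a' u
  have h2 := G_addL' Z hβ a' a u
  rw [add_comm a' a, h1, add_comm (Z.G a' u)] at h2
  rw [add_assoc (Z.G a u + Z.G a' u), add_assoc (Z.G a u + Z.G a' u)] at h2
  exact add_left_cancel h2

omit hβ in
theorem sharp_uno (k : K) : Z.B (k • Z.uno) Z.one = C.sh k • Z.uno := by rw [Z.B_smul, Z.B_uno]

theorem delta {s : K} (hs : Z.B Z.f Z.one = s • Z.uno + Z.f) (k l : K) :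
    C.T (C.sh k * (s + algebraMap F K β)) l = C.T (C.sh l * (s + algebraMap F K β)) k := by
  have h0 : ∀ k : K, Z.D (k • Z.uno) Z.e = k • Z.f := fun k => by rw [Z.D_smulL]; rfl
  have h1 := sym Z hβ (k • Z.uno) (l • Z.uno) Z.e
  have h2 : ∀ k l : K, Z.T (Z.B (k • Z.f) Z.one) (l • Z.uno) = C.T (C.sh k * s) l • Z.one + C.T (C.sh k) l • Z.e := by
    intro k l
    rw [Z.B_smul, hs, smul_add, Z.T_add, smul_smul, Z.T_uno, T_f]
  rw [h0, h0, h2, h2, sharp_uno, sharp_uno, Z.T_uno, Z.T_uno, Z.o_smulL, Z.o_smulL, hβ, Z.o_oneL] at h1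
  have h3 : (C.T (C.sh k * s) l + β * C.T (C.sh l) k - C.T (C.sh l * s) k - β * C.T (C.sh k) l) • Z.one +
      (0 : F) • Z.e = 0 := by
    linear_combination (norm := module) h1
  have h4 := (Z.freeR _ _ h3).1
  have h5 : ∀ x y : K, C.T (x * (s + algebraMap F K β)) y = C.T (x * s) y + β * C.T x y := by
    intro x y
    rw [mul_add, C.T_add_left, mul_comm x (algebraMap F K β), ← Algebra.smul_def, C.T_smul_left]
  rw [h5, h5]
  have h6 := C.two_F
  linear_combination h4 + (β * C.T (C.sh k) l - β * C.T (C.sh l) k) * h6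

theorem sharp_f (hδ : (∃ l : F, l ^ 2 ≠ l) ∨ ∃ a b : K, C.cr a b ≠ 0) :
    Z.B Z.f Z.one = algebraMap F K β • Z.uno + Z.f := by
  obtain ⟨s, hs⟩ := sharp_f_aux Z
  have hd := delta Z hβ hs
  set d := s + algebraMap F K β with hd'
  have h0 : d = 0 := by
    rcases hδ with ⟨l, hl⟩ | ⟨a, b, hab⟩
    · apply C.T_nondeg
      intro x
      have h1 := hd 1 x
      rw [C.sh_one, one_mul] at h1
      have h2 := hd (algebraMap F K l) x
      rw [C.sh_map, ← map_pow, ← Algebra.smul_def, C.T_smul_left, C.T_comm (C.sh x * d)] at h2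
      rw [Algebra.algebraMap_eq_smul_one, C.T_smul_left, C.T_comm 1, ← h1] at h2
      have h3 : (l ^ 2 - l) * C.T d x = 0 := by linear_combination h2
      exact (mul_eq_zero.1 h3).resolve_left (sub_ne_zero.2 hl)
    · have h1 : C.cr a b * d = 0 := by
        apply C.T_nondeg
        intro x
        have h2 : C.cr a b * d = C.sh (a + b) * d + C.sh a * d + C.sh b * d := by unfold Cubic.cr; ring
        rw [h2, C.T_add_left, C.T_add_left, hd, hd a, hd b, C.T_add_right]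
        have h6 := C.two_F
        linear_combination (C.T (C.sh x * d) a + C.T (C.sh x * d) b) * h6
      exact (mul_eq_zero.1 h1).resolve_left hab
  rw [hs, C.eq_of_add_eq_zeroK h0]

variable (hs : Z.B Z.f Z.one = algebraMap F K β • Z.uno + Z.f)

include hs

omit hβ in
theorem sharp_th (m : MQ K β) : Z.B (thM Z m) Z.one = thM Z (shQ C m) := by
  unfold thM shQ
  have h1 : ∀ k : K, k • Z.f = Z.D (k • Z.uno) Z.e := fun k => by rw [Z.D_smulL]; rfl
  have h2 : ∀ k l : K, Z.X (k • Z.f) (l • Z.uno) = C.cr k l • Z.f := fun k l => by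
    rw [h1, X_DL, Z.X_uno, ← h1]
  rw [sharp_add, sharp_uno, Z.B_smul, hs, h2, C.cr_comm m.im]
  module

theorem sharp_De (a : M) : Z.B (Z.D a Z.e) Z.one = Z.D (Z.B a Z.one) (Z.o Z.e Z.e) := by
  have h1 : ∀ k : K, k • Z.f = Z.D (k • Z.uno) Z.e := fun k => by rw [Z.D_smulL]; rfl
  have hu : ∀ k : K, Z.B (Z.D (k • Z.uno) Z.e) Z.one = Z.D (Z.B (k • Z.uno) Z.one) (Z.o Z.e Z.e) := fun k => by
    rw [← h1, Z.B_smul, hs, sharp_uno, Z.D_smulL, hβ, Z.D_addR, Z.D_smulR, Z.D_one]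
    rfl
  have hf : ∀ k : K, Z.B (Z.D (k • Z.f) Z.e) Z.one = Z.D (Z.B (k • Z.f) Z.one) (Z.o Z.e Z.e) := fun k => by
    have h3 : C.cr 1 (algebraMap F K β) = 0 := by
      unfold Cubic.cr
      rw [C.sh_one, ← map_one (algebraMap F K), ← map_add, C.sh_map, C.sh_map, map_one, map_add, map_one]
      linear_combination (1 + algebraMap F K β + algebraMap F K β ^ 2) * C.two_K
    have h4 : Z.X Z.f (algebraMap F K β • Z.uno) = 0 := by
      have h5 : Z.f = (1 : K) • Z.f := (one_smul _ _).symm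
      rw [h5, h1, X_DL, Z.X_uno, h3, zero_smul, Z.D_zeroL]
    rw [Z.D_smulL, D_f_e Z hβ, Z.B_smul, sharp_add, hs, sharp_uno, C.sh_map, h4, Z.B_smul, hs, Z.D_smulL, hβ,
      Z.D_addR, Z.D_smulR, Z.D_one, Z.D_addL, Z.D_smulL, D_f_e Z hβ]
    have h6 : Z.D Z.uno Z.e = Z.f := rfl
    rw [h6]
    have h7 := twoM (C := C) (F := F) (C.sh k • algebraMap F K β • Z.f)
    linear_combination (norm := module) -h7
  obtain ⟨k, l, rfl⟩ := Z.decM a
  rw [Z.D_addL, sharp_add, sharp_add, hu, hf, X_DL, X_DR, D_D Z hβ, Z.D_addL, Z.D_addL]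

theorem sharp_D (a : M) (u : R) : Z.B (Z.D a u) Z.one = Z.D (Z.B a Z.one) (Z.o u u) := by
  obtain ⟨x, y, rfl⟩ := Z.decR u
  have h1 : ∀ (l : F) (b : M), Z.B (algebraMap F K l • b) Z.one = (algebraMap F K l) ^ 2 • Z.B b Z.one := fun l b => by
    rw [Z.B_smul, C.sh_map]
  have h2 : Z.X (algebraMap F K y • Z.D a Z.e) (algebraMap F K x • a) = 0 := by
    rw [← Z.D_smulR, X_DL, ← Z.D_one (algebraMap F K x • a), Z.D_one, ← Z.D_one a, ← Z.D_smulR, X_DR, Z.D_one, X_self,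
      Z.D_zeroL, Z.D_zeroL]
  rw [Z.D_addR, Z.D_smulR, Z.D_smulR, Z.D_one, sharp_add, h1, h1, h2, sharp_De Z hβ hs]
  have h3 : Z.o (x • Z.one + y • Z.e) (x • Z.one + y • Z.e) = (x ^ 2) • Z.one + (y ^ 2) • Z.o Z.e Z.e := by
    simp only [Z.o_addL, Z.o_addR, Z.o_smulL, Z.o_smulR, Z.o_oneL, Z.o_oneR]
    have h4 := twoR (C := C) (F := F) ((x * y) • Z.e)
    linear_combination (norm := module) h4
  rw [h3, Z.D_addR, Z.D_smulR, Z.D_smulR, Z.D_one, map_pow, map_pow, add_zero]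

omit hs hβ in
theorem A_aux (a : M) : Z.A a Z.one = Z.T (Z.B a Z.one) a := by
  have h0 : Z.G a 0 = 0 := by
    have h1 := Z.G_addR a 0 0
    rw [add_zero, twoR (C := C) (F := F), Z.o_zeroR, Z.D_zeroR, Z.T_zeroL, zero_add, zero_add] at h1
    exact h1
  have h1 := Z.G_addR a Z.one Z.one
  rw [twoR (C := C) (F := F), h0, twoR (C := C) (F := F), Z.o_oneR, Z.D_one, zero_add, Z.T_symm a] at h1
  have h2 := addR_eq (C := C) (F := F) h1.symm
  rwa [zero_add] at h2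

omit hs hβ in
theorem A_eq (a : M) (u : R) : Z.A a u = Z.o (Z.T (Z.B a Z.one) a) u := by
  have h1 := Z.G_addR a u Z.one
  have h2 := Z.G_addR a Z.one u
  rw [add_comm Z.one u, h1, add_comm (Z.G a Z.one), add_assoc (Z.G a u + Z.G a Z.one),
    add_assoc (Z.G a u + Z.G a Z.one)] at h2
  have h3 := add_left_cancel h2
  rw [Z.o_oneR, Z.D_one, B_eq Z a u, Z.T_symm a, Z.H1, A_aux Z, Z.H1, Z.T_symm a] at h3
  exact add_right_cancel h3

omit hs hβ in
/-- the norm `n a = T (a^#, a)` -/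
theorem n_add (a b : M) : Z.T (Z.B (a + b) Z.one) (a + b) = Z.T (Z.B a Z.one) a + Z.T (Z.B b Z.one) b +
    Z.T (Z.B a Z.one) b + Z.T (Z.B b Z.one) a := by
  rw [sharp_add, Z.T_add, Z.T_add, Z.T_addR, Z.T_addR, Z.T_addR, Z.T_symm (Z.X b a) b, T_X_self, Z.X_symm,
    Z.T_symm (Z.X a b) a, T_X_self]
  abel

omit hs hβ in
theorem n_smul (k : K) (a : M) : Z.T (Z.B (k • a) Z.one) (k • a) = C.N k • Z.T (Z.B a Z.one) a := by
  rw [Z.B_smul, ← Z.T_K, smul_smul, ← C.N_map, Z.T_F]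

theorem G_eq (hN : ∃ k : K, C.N (k + 1) ≠ C.N k + 1) (a : M) (u : R) :
    Z.G a u = Z.o (Z.o u u) (Z.T (Z.B a Z.one) a) := by
  obtain ⟨k, hk⟩ := hN
  have hadd : ∀ a b : M, Z.G (a + b) u + Z.o (Z.o u u) (Z.T (Z.B (a + b) Z.one) (a + b)) =
      Z.G a u + Z.o (Z.o u u) (Z.T (Z.B a Z.one) a) + (Z.G b u + Z.o (Z.o u u) (Z.T (Z.B b Z.one) b)) := by
    intro a b
    rw [G_addL' Z hβ, sharp_D Z hβ hs, Z.H1, n_add Z, Z.o_addR, Z.o_addR, Z.o_addR,
      o_comm Z hβ (Z.T (Z.B a Z.one) b), o_comm Z hβ (Z.T (Z.B b Z.one) a)]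
    have h1 := twoR (C := C) (F := F) (Z.o (Z.o u u) (Z.T (Z.B a Z.one) b))
    have h2 := twoR (C := C) (F := F) (Z.o (Z.o u u) (Z.T (Z.B b Z.one) a))
    linear_combination (norm := module) h1 + h2
  have hsm : ∀ (k : K) (a : M), Z.G (k • a) u + Z.o (Z.o u u) (Z.T (Z.B (k • a) Z.one) (k • a)) =
      C.N k • (Z.G a u + Z.o (Z.o u u) (Z.T (Z.B a Z.one) a)) := by
    intro k a
    rw [Z.G_smul, n_smul Z, Z.o_smulR, smul_add]
  have h1 := hsm (k + 1) a
  have h2 := hadd (k • a) a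
  rw [show k • a + a = (k + 1) • a by rw [add_smul, one_smul]] at h2
  rw [h1, hsm k a] at h2
  have h3 : (C.N (k + 1) - (C.N k + 1)) • (Z.G a u + Z.o (Z.o u u) (Z.T (Z.B a Z.one) a)) = 0 := by
    linear_combination (norm := module) h2
  have h4 := (smul_eq_zero.1 h3).resolve_left (sub_ne_zero.2 hk)
  have h5 := addR_eq (C := C) (F := F) h4
  rwa [zero_add] at h5

end

end Cfsg.Agent.HexRing.Fun3
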