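import Cfsg.Agent.HexRing.Def

/-!
# The ring of a grown hexagonal 2-group: structure functions of `Pos`

All identities between the structure functions come from the critical pairs of the collection process.
-/

set_option autoImplicit false
set_option linter.unusedSimpArgs false

namespace Cfsg.Agent.HexRing.Grp

open Cfsg.Agent.HexRec Cfsg.Agent.HexRing.Def

variable {F K : Type*} [Field F] [Field K] [Algebra F K] {C : Cubic F K} {G : Type*} [Group G] (W : Pos C G)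

/-! ### trivial facts -/

theorem z1 : W.y1 0 = 1 := left_eq_mul.1 (by rw [← W.add1, add_zero] : W.y1 0 = W.y1 0 * W.y1 0)
theorem z2 : W.y2 0 = 1 := left_eq_mul.1 (by rw [← W.add2, add_zero] : W.y2 0 = W.y2 0 * W.y2 0)
theorem z3 : W.y3 0 = 1 := left_eq_mul.1 (by rw [← W.add3, add_zero] : W.y3 0 = W.y3 0 * W.y3 0)
theorem z4 : W.y4 0 = 1 := left_eq_mul.1 (by rw [← W.add4, add_zero] : W.y4 0 = W.y4 0 * W.y4 0)
theorem z5 : W.y5 0 = 1 := left_eq_mul.1 (by rw [← W.add5, add_zero] : W.y5 0 = W.y5 0 * W.y5 0)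
theorem z6 : W.y6 0 = 1 := left_eq_mul.1 (by rw [← W.add6, add_zero] : W.y6 0 = W.y6 0 * W.y6 0)

theorem i1 {a b} (h : W.y1 a = W.y1 b) : a = b := (W.inj a 0 0 0 0 0 b 0 0 0 0 0 (by rw [h])).1
theorem i2 {a b} (h : W.y2 a = W.y2 b) : a = b := (W.inj 0 a 0 0 0 0 0 b 0 0 0 0 (by rw [h])).2.1
theorem i3 {a b} (h : W.y3 a = W.y3 b) : a = b := (W.inj 0 0 a 0 0 0 0 0 b 0 0 0 (by rw [h])).2.2.1
theorem i4 {a b} (h : W.y4 a = W.y4 b) : a = b := (W.inj 0 0 0 a 0 0 0 0 0 b 0 0 (by rw [h])).2.2.2.1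
theorem i5 {a b} (h : W.y5 a = W.y5 b) : a = b := (W.inj 0 0 0 0 a 0 0 0 0 0 b 0 (by rw [h])).2.2.2.2.1
theorem i6 {a b} (h : W.y6 a = W.y6 b) : a = b := (W.inj 0 0 0 0 0 a 0 0 0 0 0 b (by rw [h])).2.2.2.2.2

include C in
theorem twoR (a : F × F) : a + a = 0 := by
  ext <;> simp [C.add_self]

include C in
theorem twoM (a : K × K) : a + a = 0 := by
  ext <;> simp [C.add_selfK]

/-! ### structure functions -/

/-- `[y3, y1]` -/
noncomputable def T (a b : K × K) : F × F := (W.s31 b a).choose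
/-- `[y5, y3]` -/
noncomputable def T' (a b : K × K) : F × F := (W.s53 b a).choose
/-- `[y6, y2]` -/
noncomputable def o (s u : F × F) : F × F := (W.s62 u s).choose
noncomputable def P (a b : K × K) : F × F := (W.s51 b a).choose
noncomputable def X (a b : K × K) : K × K := (W.s51 b a).choose_spec.choose
noncomputable def Q (a b : K × K) : F × F := (W.s51 b a).choose_spec.choose_spec.choose
noncomputable def A (a : K × K) (u : F × F) : F × F := (W.s61 u a).choose
noncomputable def B (a : K × K) (u : F × F) : K × K := (W.s61 u a).choose_spec.choose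
noncomputable def Gg (a : K × K) (u : F × F) : F × F := (W.s61 u a).choose_spec.choose_spec.choose
noncomputable def D (a : K × K) (u : F × F) : K × K := (W.s61 u a).choose_spec.choose_spec.choose_spec.choose

theorem q31 (b a : K × K) : W.y3 b * W.y1 a = W.y1 a * (W.y2 (T W a b) * W.y3 b) := (W.s31 b a).choose_spec
theorem q53 (b a : K × K) : W.y5 b * W.y3 a = W.y3 a * (W.y4 (T' W a b) * W.y5 b) := (W.s53 b a).choose_spec
theorem q62 (u s : F × F) : W.y6 u * W.y2 s = W.y2 s * (W.y4 (o W s u) * W.y6 u) := (W.s62 u s).choose_spec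
theorem q51 (b a : K × K) : W.y5 b * W.y1 a = W.y1 a * (W.y2 (P W a b) * (W.y3 (X W a b) *
    (W.y4 (Q W a b) * W.y5 b))) := (W.s51 b a).choose_spec.choose_spec.choose_spec
theorem q61 (u : F × F) (a : K × K) : W.y6 u * W.y1 a = W.y1 a * (W.y2 (A W a u) * (W.y3 (B W a u) *
    (W.y4 (Gg W a u) * (W.y5 (D W a u) * W.y6 u)))) := (W.s61 u a).choose_spec.choose_spec.choose_spec.choose_spec

/-! ### collection rules -/

theorem s1 (s t) (w : G) : W.y1 s * (W.y1 t * w) = W.y1 (s + t) * w := by rw [W.add1, mul_assoc]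
theorem s2 (s t) (w : G) : W.y2 s * (W.y2 t * w) = W.y2 (s + t) * w := by rw [W.add2, mul_assoc]
theorem s3 (s t) (w : G) : W.y3 s * (W.y3 t * w) = W.y3 (s + t) * w := by rw [W.add3, mul_assoc]
theorem s4 (s t) (w : G) : W.y4 s * (W.y4 t * w) = W.y4 (s + t) * w := by rw [W.add4, mul_assoc]
theorem s5 (s t) (w : G) : W.y5 s * (W.y5 t * w) = W.y5 (s + t) * w := by rw [W.add5, mul_assoc]
theorem s6 (s t) (w : G) : W.y6 s * (W.y6 t * w) = W.y6 (s + t) * w := by rw [W.add6, mul_assoc]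

theorem r21 (t a) (w : G) : W.y2 t * (W.y1 a * w) = W.y1 a * (W.y2 t * w) := by
  rw [← mul_assoc, W.r21, mul_assoc]
theorem r31 (b a) (w : G) : W.y3 b * (W.y1 a * w) = W.y1 a * (W.y2 (T W a b) * (W.y3 b * w)) := by
  rw [← mul_assoc, q31]; simp only [mul_assoc]
theorem r41 (t a) (w : G) : W.y4 t * (W.y1 a * w) = W.y1 a * (W.y4 t * w) := by
  rw [← mul_assoc, W.r41, mul_assoc]
theorem r51 (b a) (w : G) : W.y5 b * (W.y1 a * w) = W.y1 a * (W.y2 (P W a b) * (W.y3 (X W a b) *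
    (W.y4 (Q W a b) * (W.y5 b * w)))) := by
  rw [← mul_assoc, q51]; simp only [mul_assoc]
theorem r61 (t a) (w : G) : W.y6 t * (W.y1 a * w) = W.y1 a * (W.y2 (A W a t) * (W.y3 (B W a t) *
    (W.y4 (Gg W a t) * (W.y5 (D W a t) * (W.y6 t * w))))) := by
  rw [← mul_assoc, q61]; simp only [mul_assoc]
theorem r32 (b t) (w : G) : W.y3 b * (W.y2 t * w) = W.y2 t * (W.y3 b * w) := by
  rw [← mul_assoc, W.r32, mul_assoc]
theorem r42 (b t) (w : G) : W.y4 b * (W.y2 t * w) = W.y2 t * (W.y4 b * w) := by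
  rw [← mul_assoc, W.r42, mul_assoc]
theorem r52 (b t) (w : G) : W.y5 b * (W.y2 t * w) = W.y2 t * (W.y5 b * w) := by
  rw [← mul_assoc, W.r52, mul_assoc]
theorem r62 (b t) (w : G) : W.y6 b * (W.y2 t * w) = W.y2 t * (W.y4 (o W t b) * (W.y6 b * w)) := by
  rw [← mul_assoc, q62]; simp only [mul_assoc]
theorem r43 (b t) (w : G) : W.y4 b * (W.y3 t * w) = W.y3 t * (W.y4 b * w) := by
  rw [← mul_assoc, W.r43, mul_assoc]
theorem r53 (b t) (w : G) : W.y5 b * (W.y3 t * w) = W.y3 t * (W.y4 (T' W t b) * (W.y5 b * w)) := by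
  rw [← mul_assoc, q53]; simp only [mul_assoc]
theorem r63 (b t) (w : G) : W.y6 b * (W.y3 t * w) = W.y3 t * (W.y6 b * w) := by
  rw [← mul_assoc, W.r63, mul_assoc]
theorem r54 (b t) (w : G) : W.y5 b * (W.y4 t * w) = W.y4 t * (W.y5 b * w) := by
  rw [← mul_assoc, W.r54, mul_assoc]
theorem r64 (b t) (w : G) : W.y6 b * (W.y4 t * w) = W.y4 t * (W.y6 b * w) := by
  rw [← mul_assoc, W.r64, mul_assoc]
theorem r65 (b t) (w : G) : W.y6 b * (W.y5 t * w) = W.y5 t * (W.y6 b * w) := by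
  rw [← mul_assoc, W.r65, mul_assoc]

/-! ### critical pairs -/

/-- `(6; 3, 1)` -/
theorem H1' (a b : K × K) (u : F × F) : T' W b (D W a u) = o W (T W a b) u := by
  have h : W.y6 u * (W.y3 b * (W.y1 a * 1)) = W.y3 b * (W.y6 u * (W.y1 a * 1)) := by
    rw [← mul_assoc, W.r63, mul_assoc]
  simp only [r61, r51, r41, r31, r21, r32, r42, r52, r62, r43, r53, r63, r54, r64, r65, s1, s2, s3, s4, s5, s6] at h
  simp only [mul_one] at h
  have h4 := (W.inj _ _ _ _ _ _ _ _ _ _ _ _ h).2.2.2.1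
  have h5 := twoR (C := C) (o W (T W a b) u)
  linear_combination (norm := module) h4 - h5

/-- `(6; 5, 1)` -/
theorem H2' (a b : K × K) (u : F × F) :
    o W (P W a b) u = T' W (X W a b) (D W a u) + T' W (B W a u) b := by
  have h : W.y6 u * (W.y5 b * (W.y1 a * 1)) = W.y5 b * (W.y6 u * (W.y1 a * 1)) := by
    rw [← mul_assoc, W.r65, mul_assoc]
  simp only [r61, r51, r41, r31, r21, r32, r42, r52, r62, r43, r53, r63, r54, r64, r65, s1, s2, s3, s4, s5, s6] at h
  simp only [mul_one] at h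
  have h4 := (W.inj _ _ _ _ _ _ _ _ _ _ _ _ h).2.2.2.1
  have h5 := twoR (C := C) (T' W (X W a b) (D W a u))
  linear_combination (norm := module) h4 - h5

/-- `(6, 6; 1)` -/
theorem H3' (a : K × K) (u v : F × F) : A W a (v + u) = A W a v + A W a u ∧ D W a (v + u) = D W a v + D W a u ∧
    Gg W a (v + u) = Gg W a v + (T' W (B W a u) (D W a v) + (o W (A W a u) v + Gg W a u)) := by
  have h : W.y6 v * (W.y6 u * (W.y1 a * 1)) = W.y6 (v + u) * (W.y1 a * 1) := by
    rw [s6]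
  simp only [r61, r51, r41, r31, r21, r32, r42, r52, r62, r43, r53, r63, r54, r64, r65, s1, s2, s3, s4, s5, s6] at h
  simp only [mul_one] at h
  obtain ⟨-, h2, -, h4, h5, -⟩ := W.inj _ _ _ _ _ _ _ _ _ _ _ _ h
  exact ⟨h2.symm, h5.symm, h4.symm⟩

/-- `(6; 1, 1)` -/
theorem H4' (a b : K × K) (u : F × F) : B W (a + b) u = B W a u + (X W b (D W a u) + B W b u) ∧
    Gg W (a + b) u = Gg W a u + (Q W b (D W a u) + (T' W (B W b u) (D W a u) + Gg W b u)) ∧
    D W (a + b) u = D W a u + D W b u := by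
  have h := congrArg (· * (W.y1 b * 1)) (q61 W u a)
  simp only [mul_assoc, r61, r51, r41, r31, r21, r32, r42, r52, r62, r43, r53, r63, r54, r64, r65, s1, s2, s3, s4, s5, s6] at h
  simp only [mul_one] at h
  obtain ⟨-, -, h3, h4, h5, -⟩ := W.inj _ _ _ _ _ _ _ _ _ _ _ _ h
  exact ⟨h3, h4, h5⟩

/-- `(5; 1, 1)` -/
theorem H5' (a b c : K × K) : P W (a + b) c = P W a c + (T W b (X W a c) + P W b c) ∧
    X W (a + b) c = X W a c + X W b c ∧ Q W (a + b) c = Q W a c + Q W b c := by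
  have h := congrArg (· * (W.y1 b * W.y6 0)) (q51 W c a)
  simp only [mul_assoc, r61, r51, r41, r31, r21, r32, r42, r52, r62, r43, r53, r63, r54, r64, r65, s1, s2, s3, s4, s5, s6] at h
  obtain ⟨-, h2, h3, h4, -, -⟩ := W.inj _ _ _ _ _ _ _ _ _ _ _ _ h
  exact ⟨h2, h3, h4⟩

/-- `(3; 1, 1)` -/
theorem T_addL (a b c : K × K) : T W (a + b) c = T W a c + T W b c := by
  have h := congrArg (· * (W.y1 b * (W.y4 0 * (W.y5 0 * W.y6 0)))) (q31 W c a)
  simp only [mul_assoc, r61, r51, r41, r31, r21, r32, r42, r52, r62, r43, r53, r63, r54, r64, r65, s1, s2, s3, s4, s5, s6] at h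
  exact (W.inj _ _ _ _ _ _ _ _ _ _ _ _ h).2.1

/-- `(6; 2, 2)` -/
theorem o_addL (a b c : F × F) : o W (a + b) c = o W a c + o W b c := by
  have h := congrArg (fun x => W.y1 0 * (x * (W.y2 b * 1))) (q62 W c a)
  simp only [mul_assoc, r61, r51, r41, r31, r21, r32, r42, r52, r62, r43, r53, r63, r54, r64, r65, s1, s2, s3, s4, s5, s6] at h
  simp only [z1, one_mul, mul_one] at h
  have h2 := congrArg (fun x => (W.y2 (a + b))⁻¹ * x * (W.y6 c)⁻¹) h
  simp only [← mul_assoc, inv_mul_cancel, one_mul] at h2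
  simp only [mul_assoc, mul_inv_cancel, mul_one] at h2
  exact i4 W h2

/-- `(6, 6; 2)` -/
theorem o_addR (a b c : F × F) : o W a (b + c) = o W a b + o W a c := by
  have h : W.y6 b * (W.y6 c * (W.y2 a * 1)) = W.y6 (b + c) * (W.y2 a * 1) := by
    rw [s6]
  simp only [r61, r51, r41, r31, r21, r32, r42, r52, r62, r43, r53, r63, r54, r64, r65, s1, s2, s3, s4, s5, s6] at h
  simp only [mul_one] at h
  have h2 := congrArg (fun x => (W.y2 a)⁻¹ * x * (W.y6 (b + c))⁻¹) h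
  simp only [← mul_assoc, inv_mul_cancel, one_mul] at h2
  simp only [mul_assoc, mul_inv_cancel, mul_one] at h2
  exact (i4 W h2).symm

/-! ### uniqueness -/

theorem u31 {a b s} (h : W.y3 b * W.y1 a = W.y1 a * (W.y2 s * W.y3 b)) : T W a b = s := by
  rw [q31] at h
  exact i2 W (mul_right_cancel (mul_left_cancel h))

theorem u53 {a b s} (h : W.y5 b * W.y3 a = W.y3 a * (W.y4 s * W.y5 b)) : T' W a b = s := by
  rw [q53] at h
  exact i4 W (mul_right_cancel (mul_left_cancel h))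

theorem u62 {a b s} (h : W.y6 b * W.y2 a = W.y2 a * (W.y4 s * W.y6 b)) : o W a b = s := by
  rw [q62] at h
  exact i4 W (mul_right_cancel (mul_left_cancel h))

theorem u51 {a b p x q} (h : W.y5 b * W.y1 a = W.y1 a * (W.y2 p * (W.y3 x * (W.y4 q * W.y5 b)))) :
    P W a b = p ∧ X W a b = x ∧ Q W a b = q := by
  rw [q51] at h
  have h2 := congrArg (· * W.y6 0) h
  simp only [mul_assoc] at h2
  have h3 := W.inj _ _ _ _ _ _ _ _ _ _ _ _ h2
  exact ⟨h3.2.1, h3.2.2.1, h3.2.2.2.1⟩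

theorem u61 {a u p x q d} (h : W.y6 u * W.y1 a = W.y1 a * (W.y2 p * (W.y3 x * (W.y4 q * (W.y5 d * W.y6 u))))) :
    A W a u = p ∧ B W a u = x ∧ Gg W a u = q ∧ D W a u = d := by
  rw [q61] at h
  have h3 := W.inj _ _ _ _ _ _ _ _ _ _ _ _ h
  exact ⟨h3.2.1, h3.2.2.1, h3.2.2.2.1, h3.2.2.2.2.1⟩

/-! ### equivariance -/

section equiv

variable {φ1 φ3 φ5 : K × K → K × K} {φ2 φ4 φ6 : F × F → F × F} (f : G →* G)
  (f1 : ∀ v, f (W.y1 v) = W.y1 (φ1 v)) (f2 : ∀ v, f (W.y2 v) = W.y2 (φ2 v))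
  (f3 : ∀ v, f (W.y3 v) = W.y3 (φ3 v)) (f4 : ∀ v, f (W.y4 v) = W.y4 (φ4 v))
  (f5 : ∀ v, f (W.y5 v) = W.y5 (φ5 v)) (f6 : ∀ v, f (W.y6 v) = W.y6 (φ6 v))

include f1 f2 f3 in
theorem T_eq (a b) : T W (φ1 a) (φ3 b) = φ2 (T W a b) := by
  apply u31
  have h := congrArg f (q31 W b a)
  simpa only [map_mul, f1, f2, f3] using h

include f2 f4 f6 in
theorem o_eq (a b) : o W (φ2 a) (φ6 b) = φ4 (o W a b) := by
  apply u62
  have h := congrArg f (q62 W b a)
  simpa only [map_mul, f2, f4, f6] using h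

include f1 f2 f3 f4 f5 in
theorem X_eq (a b) : P W (φ1 a) (φ5 b) = φ2 (P W a b) ∧ X W (φ1 a) (φ5 b) = φ3 (X W a b) ∧
    Q W (φ1 a) (φ5 b) = φ4 (Q W a b) := by
  apply u51
  have h := congrArg f (q51 W b a)
  simpa only [map_mul, f1, f2, f3, f4, f5] using h

include f1 f2 f3 f4 f5 f6 in
theorem D_eq (a b) : A W (φ1 a) (φ6 b) = φ2 (A W a b) ∧ B W (φ1 a) (φ6 b) = φ3 (B W a b) ∧
    Gg W (φ1 a) (φ6 b) = φ4 (Gg W a b) ∧ D W (φ1 a) (φ6 b) = φ5 (D W a b) := by
  apply u61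
  have h := congrArg f (q61 W b a)
  simpa only [map_mul, f1, f2, f3, f4, f5, f6] using h

end equiv

/-! ### symmetries -/

theorem y2_inv (s) : (W.y2 s)⁻¹ = W.y2 s := by
  apply inv_eq_of_mul_eq_one_right
  rw [← W.add2, twoR (C := C), z2]

theorem y3_inv (s) : (W.y3 s)⁻¹ = W.y3 s := by
  apply inv_eq_of_mul_eq_one_right
  rw [← W.add3, twoM (C := C), z3]

theorem y4_inv (s) : (W.y4 s)⁻¹ = W.y4 s := by
  apply inv_eq_of_mul_eq_one_right
  rw [← W.add4, twoR (C := C), z4]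

theorem na_inv : W.na⁻¹ = W.na := inv_eq_of_mul_eq_one_right W.na_sq
theorem nb_inv : W.nb⁻¹ = W.nb := inv_eq_of_mul_eq_one_right W.nb_sq

/-- conjugation by `na` -/
def ca : G →* G := (MulAut.conj W.na).toMonoidHom
/-- conjugation by `nb` -/
def cb : G →* G := (MulAut.conj W.nb).toMonoidHom

theorem ca_apply (x : G) : ca W x = W.na * x * W.na := by
  unfold ca
  rw [MulEquiv.toMonoidHom_eq_coe, MonoidHom.coe_coe, MulAut.conj_apply, na_inv]
theorem cb_apply (x : G) : cb W x = W.nb * x * W.nb := by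
  unfold cb
  rw [MulEquiv.toMonoidHom_eq_coe, MonoidHom.coe_coe, MulAut.conj_apply, nb_inv]

theorem ca_ca (x : G) : ca W (ca W x) = x := by
  rw [ca_apply, ca_apply]
  calc W.na * (W.na * x * W.na) * W.na = (W.na * W.na) * x * (W.na * W.na) := by group
    _ = x := by rw [W.na_sq, one_mul, mul_one]
theorem cb_cb (x : G) : cb W (cb W x) = x := by
  rw [cb_apply, cb_apply]
  calc W.nb * (W.nb * x * W.nb) * W.nb = (W.nb * W.nb) * x * (W.nb * W.nb) := by group
    _ = x := by rw [W.nb_sq, one_mul, mul_one]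

theorem ca2 (v) : ca W (W.y2 v) = W.y6 v := by rw [ca_apply, W.na2]
theorem ca3 (v) : ca W (W.y3 v) = W.y5 v := by rw [ca_apply, W.na3]
theorem ca4 (v) : ca W (W.y4 v) = W.y4 v := by rw [ca_apply, W.na4]
theorem ca5 (v) : ca W (W.y5 v) = W.y3 v := by rw [← ca3, ca_ca]
theorem ca6 (v) : ca W (W.y6 v) = W.y2 v := by rw [← ca2, ca_ca]
theorem cb1 (v) : cb W (W.y1 v) = W.y5 v := by rw [cb_apply, W.nb1]
theorem cb2 (v) : cb W (W.y2 v) = W.y4 v := by rw [cb_apply, W.nb2]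
theorem cb3 (v) : cb W (W.y3 v) = W.y3 v := by rw [cb_apply, W.nb3]
theorem cb4 (v) : cb W (W.y4 v) = W.y2 v := by rw [← cb2, cb_cb]
theorem cb5 (v) : cb W (W.y5 v) = W.y1 v := by rw [← cb1, cb_cb]

/-- `[y3 a, y1 b]` computed backwards -/
theorem q31' (a b : K × K) : W.y1 a * W.y3 b = W.y3 b * (W.y2 (T W a b) * W.y1 a) := by
  have h := q31 W b a
  have h2 : W.y1 a * W.y3 b = W.y2 (T W a b) * (W.y3 b * W.y1 a) := by
    rw [h, ← mul_assoc (W.y1 a), ← W.r21, mul_assoc, ← mul_assoc (W.y2 _) (W.y2 _), ← W.add2, twoR (C := C), z2,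
      one_mul]
  rw [h2, ← mul_assoc, ← W.r32, mul_assoc]

theorem T_symm (a b : K × K) : T W a b = T W b a := by
  have h := congrArg (fun x => cb W (ca W (cb W x))) (q31 W a b)
  simp only [map_mul, cb1, cb2, cb3, ca5, ca3, ca4, cb5, cb4] at h
  rw [q31'] at h
  exact i2 W (mul_right_cancel (mul_left_cancel h))

theorem T'_eq (a b : K × K) : T' W a b = T W b a := by
  apply u53
  have h := congrArg (cb W) (q31' W b a)
  simpa only [map_mul, cb1, cb2, cb3] using h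

/-! ### zero values -/

theorem T_zeroL (b) : T W 0 b = 0 := by
  have := T_addL W 0 0 b
  rw [add_zero] at this
  exact left_eq_add.1 this
theorem T_zeroR (b) : T W b 0 = 0 := by rw [T_symm, T_zeroL]
theorem o_zeroL (b) : o W 0 b = 0 := by
  have := o_addL W 0 0 b
  rw [add_zero] at this
  exact left_eq_add.1 this
theorem o_zeroR (b) : o W b 0 = 0 := by
  have := o_addR W b 0 0
  rw [add_zero] at this
  exact left_eq_add.1 this
theorem X_zeroL (b) : X W 0 b = 0 := by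
  have := (H5' W 0 0 b).2.1
  rw [add_zero] at this
  exact left_eq_add.1 this
theorem Q_zeroL (b) : Q W 0 b = 0 := by
  have := (H5' W 0 0 b).2.2
  rw [add_zero] at this
  exact left_eq_add.1 this
theorem P_zeroL (b) : P W 0 b = 0 := by
  have := (H5' W 0 0 b).1
  rw [add_zero, X_zeroL, T_zeroR, zero_add] at this
  exact left_eq_add.1 this
theorem D_zeroL (b) : D W 0 b = 0 := by
  have := (H4' W 0 0 b).2.2
  rw [add_zero] at this
  exact left_eq_add.1 this
theorem D_zeroR (b) : D W b 0 = 0 := by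
  have := (H3' W b 0 0).2.1
  rw [add_zero] at this
  exact left_eq_add.1 this
theorem B_zeroL (b) : B W 0 b = 0 := by
  have := (H4' W 0 0 b).1
  rw [add_zero, X_zeroL, zero_add] at this
  exact left_eq_add.1 this
theorem G_zeroL (b) : Gg W 0 b = 0 := by
  have := (H4' W 0 0 b).2.1
  rw [add_zero, Q_zeroL, B_zeroL, D_zeroL, T'_eq, T_zeroL, zero_add, zero_add] at this
  exact left_eq_add.1 this

theorem T_X_self (a b) : T W a (X W a b) = 0 := by
  have h := (H5' W a a b).1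
  rw [twoM (C := C), P_zeroL] at h
  have h2 := twoR (C := C) (P W a b)
  linear_combination (norm := module) -h - h2

/-- conjugation of `[y5, y1]` by `nb` -/
theorem X_symm_aux (a b) : X W a b = X W b a ∧ Q W a b = P W b a := by
  have h := congrArg (cb W) (q51 W b a)
  simp only [map_mul, cb1, cb2, cb3, cb4, cb5] at h
  have h2 : W.y1 b * (W.y2 0 * (W.y3 0 * (W.y4 0 * (W.y5 a * W.y6 0)))) =
      W.y5 a * (W.y4 (P W a b) * (W.y3 (X W a b) * (W.y2 (Q W a b) * (W.y1 b * W.y6 0)))) := by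
    simp only [z2, z3, z4, z6, one_mul, mul_one]
    exact h
  simp only [r61, r51, r41, r31, r21, r32, r42, r52, r62, r43, r53, r63, r54, r64, r65, s1, s2, s3, s4, s5, s6] at h2
  obtain ⟨-, h3, h4, -⟩ := W.inj _ _ _ _ _ _ _ _ _ _ _ _ h2
  have h5 : X W a b = X W b a := by
    have h6 := twoM (C := C) (X W a b)
    linear_combination (norm := module) h6 + h4
  refine ⟨h5, ?_⟩
  rw [h5, T_X_self] at h3
  have h6 := twoR (C := C) (Q W a b)
  linear_combination (norm := module) h6 + h3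

end Cfsg.Agent.HexRing.Grp
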