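import Cfsg.Agent.HexRing.Avg
import Cfsg.Agent.HexRing.Def
import Cfsg.Agent.StdRank2.HexBN

/-!
# Labels of the doubled root groups

`VSys σ x t V` : the twelve doubled root groups `V r` of a hexagonal root system `x` (`HexTwo σ x`) with respect to an
involution `t`.
`exists_labels` : labels `Y r : A × A → Γ` of the groups `V r` of one parity, compatible with the Weyl elements, the torus and `t`.
-/

set_option autoImplicit false

namespace Cfsg.Agent.HexRing.Lab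

open Cfsg.Agent.StdRank2.Hex
open scoped commutatorElement

section

variable {K : Type*} [Field K] {σ : K ≃+* K} {Γ : Type*} [Group Γ] {x : ZMod 12 → K → Γ} {t : Γ}
  {V : ZMod 12 → Subgroup Γ}

/-- The doubled root groups. -/
structure VSys (σ : K ≃+* K) (x : ZMod 12 → K → Γ) (t : Γ) (V : ZMod 12 → Subgroup Γ) : Prop where
  tx : ∀ r a, Ok σ r a → x r a * t = t * x r a
  le : ∀ r a, Ok σ r a → x r a ∈ V r
  sq : ∀ r, ∀ y ∈ V r, y * y = 1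
  br : ∀ r, ∀ y ∈ V r, ∃ a, Ok σ r a ∧ ⁅t, y⁆ = x r a
  onto : ∀ r a, Ok σ r a → ∃ y ∈ V r, ⁅t, y⁆ = x r a
  fix : ∀ r, ∀ y ∈ V r, y * t = t * y → ∃ a, Ok σ r a ∧ y = x r a
  hV : ∀ k s, s ≠ 0 → Ok σ k s → ∀ r, ∀ y ∈ V r, hh x k s * y * (hh x k s)⁻¹ ∈ V r
  nV : ∀ k r, ∀ y ∈ V r, nn x k * y * (nn x k)⁻¹ ∈ V (2 * k + 6 - r)
  c1 : ∀ r, ∀ a ∈ V r, ∀ b ∈ V (r + 1), a * b = b * a
  c3 : ∀ r, ∀ a ∈ V r, ∀ b ∈ V (r + 3), a * b = b * a
  l2 : ∀ r : ZMod 12, r.val % 2 = 0 → ∀ a ∈ V r, ∀ b ∈ V (r + 2), a * b = b * a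
  l4 : ∀ r : ZMod 12, r.val % 2 = 0 → ∀ a ∈ V r, ∀ b ∈ V (r + 4), ⁅a, b⁆ ∈ V (r + 2)
  s2 : ∀ r : ZMod 12, r.val % 2 = 1 → ∀ a ∈ V r, ∀ b ∈ V (r + 2), ⁅a, b⁆ ∈ V (r + 1)
  s4 : ∀ r : ZMod 12, r.val % 2 = 1 → ∀ a ∈ V r, ∀ b ∈ V (r + 4), ⁅a, b⁆ ∈ V (r + 1) ⊔ V (r + 2) ⊔ V (r + 3)
  c5 : ∀ r, ∀ a ∈ V r, ∀ b ∈ V (r + 5), ⁅a, b⁆ ∈ V (r + 1) ⊔ V (r + 2) ⊔ V (r + 3) ⊔ V (r + 4)
  /-- unique normal form -/
  nf : ∀ a₁ ∈ V 1, ∀ a₂ ∈ V 2, ∀ a₃ ∈ V 3, ∀ a₄ ∈ V 4, ∀ a₅ ∈ V 5, ∀ a₆ ∈ V 6,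
    ∀ b₁ ∈ V 1, ∀ b₂ ∈ V 2, ∀ b₃ ∈ V 3, ∀ b₄ ∈ V 4, ∀ b₅ ∈ V 5, ∀ b₆ ∈ V 6,
    a₁ * a₂ * a₃ * a₄ * a₅ * a₆ = b₁ * b₂ * b₃ * b₄ * b₅ * b₆ →
    a₁ = b₁ ∧ a₂ = b₂ ∧ a₃ = b₃ ∧ a₄ = b₄ ∧ a₅ = b₅ ∧ a₆ = b₆

/-! ### The torus has odd order -/

theorem finite_H (h : HexTwo σ x) [Finite K] : Finite h.H := by
  have : (h.H : Set Γ) ⊆ Set.range fun p : K × K => hh x 1 p.1 * hh x 6 p.2 := by
    rintro g ⟨s, u, -, -, -, rfl⟩
    exact ⟨(s, u), rfl⟩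
  exact ((Set.finite_range _).subset this).to_subtype

theorem odd_card_H (h : HexTwo σ x) [Finite K] : Odd (Nat.card h.H) := by
  have := finite_H h
  rw [← Nat.not_even_iff_odd, even_iff_two_dvd]
  intro h2
  have : Fact (Nat.Prime 2) := ⟨Nat.prime_two⟩
  obtain ⟨⟨g, hg⟩, ho⟩ := exists_prime_orderOf_dvd_card' 2 h2
  have hgg : g * g = 1 := by
    have h3 := pow_orderOf_eq_one (⟨g, hg⟩ : h.H)
    rw [ho, sq] at h3
    exact congrArg Subtype.val h3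
  have hx : ∀ j : ZMod 12, g * x j 1 * g⁻¹ = x j 1 := by
    intro j
    obtain ⟨c, hc, hok, e⟩ := h.H_diag hg j
    have e1 := e 1 (ok_one σ j)
    have e2 : x j 1 = g * (g * x j 1 * g⁻¹) * g⁻¹ := by
      calc x j 1 = (g * g) * x j 1 * (g * g)⁻¹ := by rw [hgg]; group
        _ = _ := by group
    rw [e1, e _ (hok.mul (ok_one σ j)), h.x_inj (ok_one σ j) (hok.mul (hok.mul (ok_one σ j))), mul_one] at e2
    have hc1 : c = 1 := h.sq_eq_one e2.symm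
    rw [e1, hc1, one_mul]
  have h1 : g = 1 := by
    obtain ⟨s, u, hs, hu, hu', e⟩ := hg
    have := h.H_eq_one hs hu hu' (by rw [← e]; exact hx 4) (by rw [← e]; exact hx 1)
    rw [e, this.1, this.2, h.hh_one, h.hh_one, mul_one]
  subst h1
  rw [show (⟨1, hg⟩ : h.H) = 1 from rfl, orderOf_one] at ho
  exact absurd ho (by norm_num)

theorem H_V (h : HexTwo σ x) [Finite K] (S : VSys σ x t V) {g : Γ} (hg : g ∈ h.H) (r : ZMod 12) :
    ∀ y ∈ V r, g * y * g⁻¹ ∈ V r := by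
  obtain ⟨s, u, hs, hu, hu', rfl⟩ := hg
  intro y hy
  have h1 := S.hV 1 s hs (HexTwo.ok1 s) r _ (S.hV 6 u hu (ok_of_fix _ hu') r y hy)
  have e : hh x 1 s * hh x 6 u * y * (hh x 1 s * hh x 6 u)⁻¹ =
      hh x 1 s * (hh x 6 u * y * (hh x 6 u)⁻¹) * (hh x 1 s)⁻¹ := by group
  rwa [e]

theorem t_nn (S : VSys σ x t V) (k : ZMod 12) : nn x k * t = t * nn x k := by
  have h1 := S.tx k 1 (ok_one σ k)
  have h2 := S.tx (k + 6) 1 (ok_one σ (k + 6))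
  unfold nn
  rw [mul_assoc, h1, mul_assoc, ← mul_assoc (x (k + 6) 1) t, h2, ← mul_assoc, ← mul_assoc, ← mul_assoc, h1]
  group

theorem t_H (h : HexTwo σ x) [Finite K] (S : VSys σ x t V) {g : Γ} (hg : g ∈ h.H) : g * t = t * g := by
  have hnt : ∀ k u, Ok σ k u → nt x k u * t = t * nt x k u := by
    intro k u hu
    have h1 := S.tx k u hu
    have h2 := S.tx (k + 6) u⁻¹ (hu.inv.congr (val_add_6 k))
    unfold nt
    rw [mul_assoc, h1, mul_assoc, ← mul_assoc (x (k + 6) u⁻¹) t, h2, ← mul_assoc, ← mul_assoc, ← mul_assoc, h1]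
    group
  obtain ⟨s, u, hs, hu, hu', rfl⟩ := hg
  unfold hh
  rw [mul_assoc, mul_assoc, mul_assoc, t_nn S, ← mul_assoc (nt x 6 u), hnt 6 u (ok_of_fix _ hu'), mul_assoc t,
    ← mul_assoc (nn x 1) t, t_nn S, mul_assoc t, ← mul_assoc (nt x 1 s) t, hnt 1 s (HexTwo.ok1 s)]
  group

/-! ### Base case -/

section base

variable {A : Type*} [CommRing A] (ι : A →+* K)

/-- labels of one doubled root group -/
theorem base (h : HexTwo σ x) [Finite K] (S : VSys σ x t V) (r : ZMod 12) (hι : Function.Injective ι)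
    (hok : ∀ b, Ok σ r b ↔ ∃ a, ι a = b) :
    ∃ y : A × A → Γ, (∀ v w, y (v + w) = y v * y w) ∧ (∀ g, g ∈ V r ↔ ∃ v, y v = g) ∧ (∀ v w, y v = y w → v = w) ∧
      (∀ a, y (a, 0) = x r (ι a)) ∧ (∀ v, t * y v * t⁻¹ = y (v.1 + v.2, v.2)) ∧
      ∀ g ∈ h.H, ∀ c : A, (∀ a, g * x r (ι a) * g⁻¹ = x r (ι (c * a))) → ∀ v, g * y v * g⁻¹ = y (c • v) := by
  have hfin := finite_H h
  have okι : ∀ a, Ok σ r (ι a) := fun a => (hok _).2 ⟨a, rfl⟩
  have hA : ∀ a : A, a + a = 0 := fun a => hι (by rw [map_add, h.add_self, map_zero])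
  have xadd : ∀ a b : A, x r (ι (a + b)) = x r (ι a) * x r (ι b) := fun a b => by
    rw [map_add, h.add r _ _ (okι a) (okι b)]
  have xinj : ∀ a b : A, x r (ι a) = x r (ι b) → a = b := fun a b e => hι ((h.x_inj (okι a) (okι b)).1 e)
  -- the characters
  have hch : ∀ g ∈ h.H, ∃ c : A, ∀ a, g * x r (ι a) * g⁻¹ = x r (ι (c * a)) := by
    intro g hg
    obtain ⟨c, hc, hc', e⟩ := h.H_diag hg r
    obtain ⟨c, rfl⟩ := (hok c).1 hc'
    exact ⟨c, fun a => by rw [e _ (okι a), map_mul]⟩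
  classical
  choose! ch hch using hch
  obtain ⟨v, hvV, hvadd, hvt, hvH⟩ := Avg.exists_lift (V := V r) (H := h.H) (odd_card_H h) (S.sq r) hA
    (fun a => x r (ι a)) xadd xinj (fun a => S.le r _ (okι a)) (t := t)
    (fun y hy => by
      obtain ⟨a, ha, e⟩ := S.br r y hy
      obtain ⟨a, rfl⟩ := (hok a).1 ha
      exact ⟨a, e⟩)
    (fun a => S.onto r _ (okι a)) (fun g hg y hy => H_V h S hg r y hy) (fun g hg => t_H h S hg)
    (fun g a => ch g * a) (fun g hg a => hch g hg a)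
  have hcomm : ∀ y ∈ V r, ∀ z ∈ V r, y * z = z * y := fun y hy z hz => by
    have hinv : ∀ y ∈ V r, y⁻¹ = y := fun y hy => inv_eq_of_mul_eq_one_right (S.sq r y hy)
    have h1 := hinv _ ((V r).mul_mem hy hz)
    rw [mul_inv_rev, hinv y hy, hinv z hz] at h1
    exact h1.symm
  have hv0 : v 0 = 1 := left_eq_mul.1 (by rw [← hvadd, add_zero] : v 0 = v 0 * v 0)
  have hx0 : x r (ι 0) = 1 := by rw [map_zero, h.x_zero]
  have txt : ∀ a, t * x r (ι a) * t⁻¹ = x r (ι a) := fun a => by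
    rw [← S.tx r _ (okι a), mul_inv_cancel_right]
  refine ⟨fun w => x r (ι w.1) * v w.2, fun w w' => ?_, fun g => ⟨fun hg => ?_, ?_⟩, ?_, fun a => ?_, fun w => ?_,
    fun g hg c hc w => ?_⟩
  · simp only [Prod.fst_add, Prod.snd_add]
    rw [xadd, hvadd]
    have e := hcomm _ (S.le r _ (okι w'.1)) _ (hvV w.2)
    calc x r (ι w.1) * x r (ι w'.1) * (v w.2 * v w'.2) = x r (ι w.1) * (x r (ι w'.1) * v w.2) * v w'.2 := by group
      _ = _ := by rw [e]; group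
  · obtain ⟨b, hb, e⟩ := S.br r g hg
    obtain ⟨b, rfl⟩ := (hok b).1 hb
    have e1 : t * g * t⁻¹ = x r (ι b) * g := by
      rw [← e, commutatorElement_def]; group
    have hgv : g * v b ∈ V r := mul_mem hg (hvV b)
    obtain ⟨a, ha, e2⟩ := S.fix r _ hgv (by
      have e3 : t * (g * v b) * t⁻¹ = g * v b := by
        calc t * (g * v b) * t⁻¹ = (t * g * t⁻¹) * (t * v b * t⁻¹) := by group
          _ = (x r (ι b) * g) * (v b * x r (ι b)) := by rw [e1, hvt]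
          _ = x r (ι b) * (g * v b * x r (ι b)) := by group
          _ = x r (ι b) * (x r (ι b) * (g * v b)) := by rw [hcomm _ hgv _ (S.le r _ (okι b))]
          _ = _ := by rw [← mul_assoc, h.x_sq (okι b), one_mul]
      calc g * v b * t = (t * (g * v b) * t⁻¹) * t := by rw [e3]
        _ = _ := by group)
    obtain ⟨a, rfl⟩ := (hok a).1 ha
    refine ⟨(a, b), ?_⟩
    simp only
    rw [← e2, mul_assoc, S.sq r _ (hvV b), mul_one]
  · rintro ⟨w, rfl⟩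
    exact mul_mem (S.le r _ (okι w.1)) (hvV w.2)
  · intro w w' e
    simp only at e
    have e1 : t * (x r (ι w.1) * v w.2) * t⁻¹ = t * (x r (ι w'.1) * v w'.2) * t⁻¹ := by rw [e]
    have e2 : ∀ w : A × A, t * (x r (ι w.1) * v w.2) * t⁻¹ = (x r (ι w.1) * v w.2) * x r (ι w.2) := fun w => by
      calc t * (x r (ι w.1) * v w.2) * t⁻¹ = (t * x r (ι w.1) * t⁻¹) * (t * v w.2 * t⁻¹) := by group
        _ = _ := by rw [txt, hvt, mul_assoc]
    rw [e2, e2, e] at e1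
    have e3 := xinj _ _ (mul_left_cancel e1)
    rw [e3] at e
    exact Prod.ext (xinj _ _ (mul_right_cancel e)) e3
  · simp only
    rw [hv0, mul_one]
  · simp only
    have e := hcomm _ (hvV w.2) _ (S.le r _ (okι w.2))
    calc t * (x r (ι w.1) * v w.2) * t⁻¹ = (t * x r (ι w.1) * t⁻¹) * (t * v w.2 * t⁻¹) := by group
      _ = x r (ι w.1) * (v w.2 * x r (ι w.2)) := by rw [txt, hvt]
      _ = _ := by rw [e, xadd]; group
  · simp only [Prod.smul_fst, Prod.smul_snd, smul_eq_mul]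
    have hc' : ch g = c := by
      have e := hch g hg 1
      rw [hc 1, mul_one, mul_one] at e
      exact (xinj _ _ e).symm
    have e2 : g * v w.2 * g⁻¹ = v (c * w.2) := by rw [hvH g hg, hc']
    calc g * (x r (ι w.1) * v w.2) * g⁻¹ = (g * x r (ι w.1) * g⁻¹) * (g * v w.2 * g⁻¹) := by group
      _ = _ := by rw [hc, e2]

end base

end

end Cfsg.Agent.HexRing.Lab
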