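import Cfsg.Agent.HexRing.Lab

/-!
# Labels of the doubled root groups: rotation
-/

set_option autoImplicit false

namespace Cfsg.Agent.HexRing.Lab2

open Cfsg.Agent.StdRank2.Hex Cfsg.Agent.StdRank2.Hex.HexTwo Cfsg.Agent.HexRing.Lab
open scoped commutatorElement

variable {K : Type*} [Field K] {σ : K ≃+* K} {Γ : Type*} [Group Γ] {x : ZMod 12 → K → Γ} {t : Γ}
  {V : ZMod 12 → Subgroup Γ}

theorem rho_congr (h : HexTwo σ x) {k m : ℕ} (e : (2 * k : ZMod 12) = 2 * m) : rho x ^ k = rho x ^ m := by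
  have h1 : k % 6 = m % 6 := by
    have h2 : ((2 * k : ℕ) : ZMod 12) = ((2 * m : ℕ) : ZMod 12) := by push_cast; exact e
    rw [ZMod.natCast_eq_natCast_iff] at h2
    unfold Nat.ModEq at h2
    omega
  rw [← Nat.div_add_mod k 6, ← Nat.div_add_mod m 6, pow_add, pow_add, pow_mul, pow_mul, h.rho_pow_six, one_pow,
    one_pow, h1]

theorem rho_V (S : VSys σ x t V) (m : ℕ) (r : ZMod 12) {y : Γ} (hy : y ∈ V r) :
    rho x ^ m * y * (rho x ^ m)⁻¹ ∈ V (r + 2 * m) := by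
  induction m with
  | zero => simpa using hy
  | succ m ih =>
    have e : rho x ^ (m + 1) * y * (rho x ^ (m + 1))⁻¹ =
        nn x 1 * (nn x 6 * (rho x ^ m * y * (rho x ^ m)⁻¹) * (nn x 6)⁻¹) * (nn x 1)⁻¹ := by
      rw [pow_succ']
      generalize rho x ^ m = w
      rw [rho]; group
    rw [e]
    have h1 := S.nV 1 _ _ (S.nV 6 _ _ ih)
    have e2 : (2 * 1 + 6 - (2 * 6 + 6 - (r + 2 * (m : ZMod 12))) : ZMod 12) = r + 2 * ((m + 1 : ℕ) : ZMod 12) := by
      push_cast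
      have : (12 : ZMod 12) = 0 := rfl
      linear_combination (-1 : ZMod 12) * this
    rwa [e2] at h1

theorem rho_V' (h : HexTwo σ x) (S : VSys σ x t V) (m : ℕ) (r : ZMod 12) {y : Γ} (hy : y ∈ V (r + 2 * m)) :
    (rho x ^ m)⁻¹ * y * rho x ^ m ∈ V r := by
  have e : (rho x ^ m)⁻¹ = rho x ^ (5 * m) := by
    refine inv_eq_of_mul_eq_one_left ?_
    rw [← pow_add, show 5 * m + m = 6 * m by ring, pow_mul, h.rho_pow_six, one_pow]
  have h1 := rho_V S (5 * m) _ hy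
  rw [← e, inv_inv] at h1
  have e2 : (r + 2 * (m : ZMod 12) + 2 * ((5 * m : ℕ) : ZMod 12) : ZMod 12) = r := by
    push_cast
    have : (12 : ZMod 12) = 0 := rfl
    linear_combination (m : ZMod 12) * this
  rwa [e2] at h1

theorem t_rho (S : VSys σ x t V) (m : ℕ) : rho x ^ m * t = t * rho x ^ m := by
  have h1 : Commute (rho x) t := by
    unfold rho
    exact Commute.mul_left (t_nn S 1) (t_nn S 6)
  exact h1.pow_left m

theorem nn_mul_rho_pow (h : HexTwo σ x) (c : ZMod 12) (m : ℕ) : nn x c * rho x ^ m = nn x (c - m) := by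
  induction m with
  | zero => simp
  | succ m ih =>
    rw [pow_succ, ← mul_assoc, ih]
    have := h.nn_mul_rho (c - m - 1)
    rw [sub_add_cancel] at this
    rw [this]
    congr 1
    push_cast
    ring

/-- the reflection orthogonal to `r` centralises `V r` -/
theorem nn_orth (S : VSys σ x t V) (r : ZMod 12) {y : Γ} (hy : y ∈ V r) : nn x (r + 3) * y = y * nn x (r + 3) := by
  have h1 : x (r + 3) 1 * y = y * x (r + 3) 1 :=
    (S.c3 r y hy _ (S.le (r + 3) 1 (ok_one σ _))).symm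
  have h2 : x (r + 3 + 6) 1 * y = y * x (r + 3 + 6) 1 := by
    have e : r + 3 + 6 + 3 = r := by
      have : (12 : ZMod 12) = 0 := rfl
      linear_combination this
    exact S.c3 (r + 3 + 6) _ (S.le _ 1 (ok_one σ _)) y (by rw [e]; exact hy)
  unfold nn
  rw [mul_assoc, h1, mul_assoc, ← mul_assoc (x (r + 3 + 6) 1), h2, ← mul_assoc, ← mul_assoc, ← mul_assoc, h1]
  group

theorem two_mul_half (r r0 : ZMod 12) (hr : r.val % 2 = r0.val % 2) :
    (2 * (((r - r0).val / 2 : ℕ) : ZMod 12)) = r - r0 := by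
  revert r r0; decide

/-- labels of the groups `V r` of one parity -/
theorem exists_labels {A : Type*} [CommRing A] (ι : A →+* K) (h : HexTwo σ x) [Finite K] (S : VSys σ x t V)
    (r0 : ZMod 12) (hι : Function.Injective ι) (hok : ∀ b, Ok σ r0 b ↔ ∃ a, ι a = b) :
    ∃ Y : ZMod 12 → A × A → Γ, (∀ r v w, Y r (v + w) = Y r v * Y r w) ∧
      (∀ r v, t * Y r v * t⁻¹ = Y r (v.1 + v.2, v.2)) ∧
      ∀ r : ZMod 12, r.val % 2 = r0.val % 2 → (∀ g, g ∈ V r ↔ ∃ v, Y r v = g) ∧ (∀ v w, Y r v = Y r w → v = w) ∧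
      (∀ a, Y r (a, 0) = x r (ι a)) ∧ (∀ k v, nn x k * Y r v * (nn x k)⁻¹ = Y (2 * k + 6 - r) v) ∧
      ∀ g ∈ h.H, ∀ c : A, (∀ a, g * x r (ι a) * g⁻¹ = x r (ι (c * a))) → ∀ v, g * Y r v * g⁻¹ = Y r (c • v) := by
  obtain ⟨y, y_add, y_mem, y_inj, y_small, y_t, y_H⟩ := base ι h S r0 hι hok
  set m : ZMod 12 → ℕ := fun r => (r - r0).val / 2 with hm
  have hm2 : ∀ r : ZMod 12, r.val % 2 = r0.val % 2 → (2 * (m r : ZMod 12)) = r - r0 := fun r hr => two_mul_half r r0 hr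
  have okr : ∀ r : ZMod 12, r.val % 2 = r0.val % 2 → ∀ a, Ok σ r (ι a) := fun r hr a =>
    ((hok _).2 ⟨a, rfl⟩).congr hr
  have ok0 : ∀ a, Ok σ r0 (ι a) := okr r0 rfl
  have hsmall : ∀ r : ZMod 12, r.val % 2 = r0.val % 2 → ∀ a, rho x ^ m r * x r0 (ι a) * (rho x ^ m r)⁻¹ = x r (ι a) :=
    fun r hr a => by
      have h1 := h.rot_pow (m r) r0 (ok0 a)
      rw [hm2 r hr, add_sub_cancel] at h1
      exact h1
  refine ⟨fun r v => rho x ^ m r * y v * (rho x ^ m r)⁻¹, fun r v w => ?_, fun r v => ?_, fun r hr =>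
    ⟨fun g => ⟨fun hg => ?_, ?_⟩, fun v w e => ?_, fun a => ?_, fun k v => ?_, fun g hg c hc v => ?_⟩⟩
  · simp only
    rw [y_add]; group
  · have e1 := t_rho S (m r)
    have e2 : (rho x ^ m r)⁻¹ * t⁻¹ = t⁻¹ * (rho x ^ m r)⁻¹ := by rw [← mul_inv_rev, ← mul_inv_rev, e1]
    simp only
    rw [← y_t]
    calc t * (rho x ^ m r * y v * (rho x ^ m r)⁻¹) * t⁻¹ =
        (t * rho x ^ m r) * y v * ((rho x ^ m r)⁻¹ * t⁻¹) := by group
      _ = (rho x ^ m r * t) * y v * (t⁻¹ * (rho x ^ m r)⁻¹) := by rw [e1, e2]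
      _ = _ := by group
  · have h1 := rho_V' h S (m r) r0 (y := g) (by rw [hm2 r hr, add_sub_cancel]; exact hg)
    obtain ⟨v, hv⟩ := (y_mem _).1 h1
    refine ⟨v, ?_⟩
    simp only
    rw [hv]; group
  · rintro ⟨v, rfl⟩
    have h1 := rho_V S (m r) r0 ((y_mem _).2 ⟨v, rfl⟩)
    rw [hm2 r hr, add_sub_cancel] at h1
    exact h1
  · simp only at e
    exact y_inj _ _ (mul_left_cancel (mul_right_cancel e))
  · simp only
    rw [y_small, hsmall r hr]
  · simp only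
    set k' : ℕ := (k - (m r : ZMod 12) - (r0 + 3)).val with hk'
    have e1 : nn x k * rho x ^ m r = rho x ^ k' * nn x (r0 + 3) := by
      rw [nn_mul_rho_pow h, h.rho_pow_mul_nn, hk', ZMod.natCast_zmod_val]
      congr 1
      ring
    have e2 : rho x ^ k' = rho x ^ m (2 * k + 6 - r) := by
      apply rho_congr h
      rw [hm2 (2 * k + 6 - r) (by rw [val_refl]; exact hr), hk', ZMod.natCast_zmod_val]
      have h1 := hm2 r hr
      have : (12 : ZMod 12) = 0 := rfl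
      linear_combination -h1 - this
    have e3 := nn_orth S r0 ((y_mem _).2 ⟨v, rfl⟩)
    calc nn x k * (rho x ^ m r * y v * (rho x ^ m r)⁻¹) * (nn x k)⁻¹ =
        (nn x k * rho x ^ m r) * y v * (nn x k * rho x ^ m r)⁻¹ := by group
      _ = rho x ^ k' * (nn x (r0 + 3) * y v) * (rho x ^ k' * nn x (r0 + 3))⁻¹ := by rw [e1]; group
      _ = rho x ^ k' * y v * (rho x ^ k')⁻¹ := by rw [e3]; group
      _ = _ := by rw [e2]
  · simp only
    set w := rho x ^ m r with hw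
    have hwW : IsW x w⁻¹ := h.isW_inv (Or.inl ⟨m r, rfl⟩)
    have hg' : w⁻¹ * g * w ∈ h.H := by
      have := h.isW_conj_H hwW hg
      rwa [inv_inv] at this
    have h1 := y_H _ hg' c (fun a => by
      have e1 : w * x r0 (ι a) * w⁻¹ = x r (ι a) := hsmall r hr a
      have e2 : w * x r0 (ι (c * a)) * w⁻¹ = x r (ι (c * a)) := hsmall r hr (c * a)
      calc w⁻¹ * g * w * x r0 (ι a) * (w⁻¹ * g * w)⁻¹ = w⁻¹ * (g * (w * x r0 (ι a) * w⁻¹) * g⁻¹) * w := by group
        _ = w⁻¹ * (w * x r0 (ι (c * a)) * w⁻¹) * w := by rw [e1, hc, e2]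
        _ = _ := by group) v
    rw [← h1]
    group

end Cfsg.Agent.HexRing.Lab2
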