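import Cfsg.Agent.HexRing.Lab2
import Cfsg.Agent.HexRec.OfHexRel

/-!
# From the doubled root groups to `Pos`
-/

set_option autoImplicit false

namespace Cfsg.Agent.HexRing.Lab3

open Cfsg.Agent.HexRec Cfsg.Agent.HexRing.Def
open Cfsg.Agent.StdRank2.Hex Cfsg.Agent.StdRank2.Hex.HexTwo Cfsg.Agent.HexRing.Lab Cfsg.Agent.HexRing.Lab2
open Cfsg.Agent.Hex.Defs (CubicPair)
open scoped commutatorElement

/-! ### joins -/

section join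

variable {G : Type*} [Group G]

theorem mem_sup_of_norm {A B : Subgroup G} (h : ∀ b ∈ B, ∀ a ∈ A, b * a * b⁻¹ ∈ A) {g : G} (hg : g ∈ A ⊔ B) :
    ∃ a ∈ A, ∃ b ∈ B, a * b = g := by
  let S : Subgroup G :=
    { carrier := {g | ∃ a ∈ A, ∃ b ∈ B, a * b = g}
      one_mem' := ⟨1, A.one_mem, 1, B.one_mem, by simp⟩
      mul_mem' := by
        rintro _ _ ⟨a, ha, b, hb, rfl⟩ ⟨a', ha', b', hb', rfl⟩
        exact ⟨a * (b * a' * b⁻¹), A.mul_mem ha (h b hb a' ha'), b * b', B.mul_mem hb hb', by group⟩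
      inv_mem' := by
        rintro _ ⟨a, ha, b, hb, rfl⟩
        refine ⟨b⁻¹ * a⁻¹ * b⁻¹⁻¹, h _ (B.inv_mem hb) _ (A.inv_mem ha), b⁻¹, B.inv_mem hb, by group⟩ }
  have : A ⊔ B ≤ S := sup_le (fun a ha => ⟨a, ha, 1, B.one_mem, by simp⟩) (fun b hb => ⟨1, A.one_mem, b, hb, by simp⟩)
  exact this hg

theorem conj_sup {A B S : Subgroup G} {g : G} (hA : ∀ a ∈ A, g * a * g⁻¹ ∈ S) (hB : ∀ a ∈ B, g * a * g⁻¹ ∈ S) :
    ∀ a ∈ A ⊔ B, g * a * g⁻¹ ∈ S := by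
  have : A ⊔ B ≤ S.comap (MulAut.conj g).toMonoidHom := by
    refine sup_le (fun a ha => ?_) (fun a ha => ?_)
    · simpa using hA a ha
    · simpa using hB a ha
  intro a ha
  simpa using this ha

theorem conj_mem_comm {A S : Subgroup G} {g : G} (hA : ∀ a ∈ A, g * a = a * g) (hS : A ≤ S) : ∀ a ∈ A, g * a * g⁻¹ ∈ S :=
  fun a ha => by rw [hA a ha, mul_inv_cancel_right]; exact hS ha

end join

section main

variable {F K : Type*} [Field F] [Field K] [Algebra F K] {φ : K ≃ₐ[F] K} {Γ : Type*} [Group Γ]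
  {x : ZMod 12 → K → Γ} {t : Γ} {V : ZMod 12 → Subgroup Γ}

/-- decomposition of `V 2 ⊔ V 3 ⊔ V 4` -/
theorem mem234 {σ : K ≃+* K} (S : VSys σ x t V) {g : Γ} (hg : g ∈ V 2 ⊔ V 3 ⊔ V 4) :
    ∃ a ∈ V 2, ∃ b ∈ V 3, ∃ c ∈ V 4, a * (b * c) = g := by
  have h23 : ∀ b ∈ V 3, ∀ a ∈ V 2, b * a * b⁻¹ ∈ V 2 := fun b hb a ha => by
    rw [← S.c1 2 a ha b hb, mul_inv_cancel_right]; exact ha
  have h4 : ∀ c ∈ V 4, ∀ a ∈ V 2 ⊔ V 3, c * a * c⁻¹ ∈ V 2 ⊔ V 3 := fun c hc =>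
    conj_sup (conj_mem_comm (fun a ha => (S.l2 2 (by decide) a ha c hc).symm) le_sup_left)
      (conj_mem_comm (fun a ha => (S.c1 3 a ha c hc).symm) le_sup_right)
  obtain ⟨p, hp, c, hc, rfl⟩ := mem_sup_of_norm h4 hg
  obtain ⟨a, ha, b, hb, rfl⟩ := mem_sup_of_norm h23 hp
  exact ⟨a, ha, b, hb, c, hc, by group⟩

/-- decomposition of `V 2 ⊔ V 3 ⊔ V 4 ⊔ V 5` -/
theorem mem2345 {σ : K ≃+* K} (S : VSys σ x t V) {g : Γ} (hg : g ∈ V 2 ⊔ V 3 ⊔ V 4 ⊔ V 5) :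
    ∃ a ∈ V 2, ∃ b ∈ V 3, ∃ c ∈ V 4, ∃ d ∈ V 5, a * (b * (c * d)) = g := by
  have h5 : ∀ d ∈ V 5, ∀ a ∈ V 2 ⊔ V 3 ⊔ V 4, d * a * d⁻¹ ∈ V 2 ⊔ V 3 ⊔ V 4 := fun d hd => by
    refine conj_sup (conj_sup ?_ ?_) ?_
    · exact conj_mem_comm (fun a ha => (S.c3 2 a ha d hd).symm) (le_sup_left.trans le_sup_left)
    · intro b hb
      have h1 := S.s2 3 (by decide) b hb d hd
      have h2 : d * b * d⁻¹ = ⁅b, d⁆⁻¹ * b := by rw [commutatorElement_def]; group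
      rw [h2]
      exact mul_mem (inv_mem (Subgroup.mem_sup_right h1)) (Subgroup.mem_sup_left (Subgroup.mem_sup_right hb))
    · exact conj_mem_comm (fun a ha => (S.c1 4 a ha d hd).symm) le_sup_right
  obtain ⟨p, hp, d, hd, rfl⟩ := mem_sup_of_norm h5 hg
  obtain ⟨a, ha, b, hb, c, hc, rfl⟩ := mem234 S hp
  exact ⟨a, ha, b, hb, c, hc, d, hd, by group⟩

/-- the labels -/
structure Labels (φ : K ≃ₐ[F] K) (x : ZMod 12 → K → Γ) (t : Γ) (V : ZMod 12 → Subgroup Γ) [Finite K]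
    (h : HexTwo (φ : K ≃+* K) x) where
  YS : ZMod 12 → K × K → Γ
  YL : ZMod 12 → F × F → Γ
  addS : ∀ r v w, YS r (v + w) = YS r v * YS r w
  addL : ∀ r v w, YL r (v + w) = YL r v * YL r w
  tS : ∀ r v, t * YS r v * t⁻¹ = YS r (v.1 + v.2, v.2)
  tL : ∀ r v, t * YL r v * t⁻¹ = YL r (v.1 + v.2, v.2)
  memS : ∀ r : ZMod 12, r.val % 2 = 1 → ∀ g, g ∈ V r ↔ ∃ v, YS r v = g
  memL : ∀ r : ZMod 12, r.val % 2 = 0 → ∀ g, g ∈ V r ↔ ∃ v, YL r v = g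
  injS : ∀ r : ZMod 12, r.val % 2 = 1 → ∀ v w, YS r v = YS r w → v = w
  injL : ∀ r : ZMod 12, r.val % 2 = 0 → ∀ v w, YL r v = YL r w → v = w
  smallS : ∀ r : ZMod 12, r.val % 2 = 1 → ∀ a, YS r (a, 0) = x r a
  smallL : ∀ r : ZMod 12, r.val % 2 = 0 → ∀ a, YL r (a, 0) = x r (algebraMap F K a)
  nS : ∀ k r : ZMod 12, r.val % 2 = 1 → ∀ v, nn x k * YS r v * (nn x k)⁻¹ = YS (2 * k + 6 - r) v
  nL : ∀ k r : ZMod 12, r.val % 2 = 0 → ∀ v, nn x k * YL r v * (nn x k)⁻¹ = YL (2 * k + 6 - r) v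
  hS : ∀ g ∈ h.H, ∀ r : ZMod 12, r.val % 2 = 1 → ∀ c, (∀ a, g * x r a * g⁻¹ = x r (c * a)) →
    ∀ v, g * YS r v * g⁻¹ = YS r (c • v)
  hL : ∀ g ∈ h.H, ∀ r : ZMod 12, r.val % 2 = 0 → ∀ c : F,
    (∀ a : F, g * x r (algebraMap F K a) * g⁻¹ = x r (algebraMap F K (c * a))) → ∀ v, g * YL r v * g⁻¹ = YL r (c • v)

theorem exists_labels' (hφ : CubicPair φ) [Finite K] (h : HexTwo (φ : K ≃+* K) x)
    (S : VSys (φ : K ≃+* K) x t V) : Nonempty (Labels φ x t V h) := by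
  obtain ⟨YS, aS, tS, pS⟩ := exists_labels (RingHom.id K) h S 1 Function.injective_id (fun b =>
    ⟨fun _ => ⟨b, rfl⟩, fun _ => HexTwo.ok1 b⟩)
  obtain ⟨YL, aL, tL, pL⟩ := exists_labels (algebraMap F K) h S 2 (algebraMap F K).injective (fun b =>
    ⟨fun hb => hφ.fixed b (hb (by decide)), by
      rintro ⟨a, rfl⟩
      exact fun _ => φ.commutes a⟩)
  exact ⟨
  { YS := YS
    YL := YL
    addS := aS
    addL := aL
    tS := tS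
    tL := tL
    memS := fun r hr => (pS r hr).1
    memL := fun r hr => (pL r hr).1
    injS := fun r hr => (pS r hr).2.1
    injL := fun r hr => (pL r hr).2.1
    smallS := fun r hr => (pS r hr).2.2.1
    smallL := fun r hr => (pL r hr).2.2.1
    nS := fun k r hr => (pS r hr).2.2.2.1 k
    nL := fun k r hr => (pL r hr).2.2.2.1 k
    hS := fun g hg r hr => (pS r hr).2.2.2.2 g hg
    hL := fun g hg r hr => (pL r hr).2.2.2.2 g hg }⟩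

end main

end Cfsg.Agent.HexRing.Lab3
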