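import Cfsg.Agent.HexRing.Lab3
import Cfsg.Agent.HexRing.Main

/-!
# From the doubled root groups to `Pos`, second part
-/

set_option autoImplicit false

namespace Cfsg.Agent.HexRing.Lab4

open Cfsg.Agent.HexRec Cfsg.Agent.HexRing.Def Cfsg.Agent.HexRing.Lab3
open Cfsg.Agent.StdRank2.Hex Cfsg.Agent.StdRank2.Hex.HexTwo Cfsg.Agent.HexRing.Lab Cfsg.Agent.HexRing.Lab2
open Cfsg.Agent.Hex.Defs (CubicPair)
open Cfsg.Agent.SplitTwo (nrm shp)
open scoped commutatorElement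

variable {F K : Type*} [Field F] [Field K] [Algebra F K] {φ : K ≃ₐ[F] K} {Γ : Type*} [Group Γ]
  {x : ZMod 12 → K → Γ} {t : Γ} {V : ZMod 12 → Subgroup Γ}

/-! ### the torus -/

theorem exists_sqrt (hφ : CubicPair φ) [Finite K] (k : K) : ∃ r : K, r * r = shp (φ : K ≃+* K) k := by
  have h1 : Function.Injective (fun r : K => r * r) := fun a b e => by
    have h2 : (a - b) * (a - b) = 0 := by
      have h3 := hφ.two
      simp only at e
      linear_combination e + (b * b - a * b) * h3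
    exact sub_eq_zero.1 (mul_self_eq_zero.1 h2)
  exact Finite.surjective_of_injective h1 _

/-- the parameters of `h (k, l)` -/
theorem exists_param (hφ : CubicPair φ) [Finite K] {k : K} {l : F} (hk : k ≠ 0) (hl : l ≠ 0) :
    ∃ s u : K, s ≠ 0 ∧ u ≠ 0 ∧ (φ : K ≃+* K) u = u ∧
      s ^ 2 * u⁻¹ = k ∧
      nrm (φ : K ≃+* K) s * u⁻¹ = algebraMap F K ((OfPair.cubic hφ).N k * l) ∧
      s⁻¹ * shp (φ : K ≃+* K) s = (OfPair.cubic hφ).sh k * algebraMap F K l ∧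
      u = algebraMap F K ((OfPair.cubic hφ).N k * l ^ 2) ∧
      s * (shp (φ : K ≃+* K) s)⁻¹ * u = k * algebraMap F K l ∧
      (nrm (φ : K ≃+* K) s)⁻¹ * u ^ 2 = algebraMap F K l := by
  set σ : K ≃+* K := (φ : K ≃+* K) with hσ
  obtain ⟨r, hr⟩ := exists_sqrt hφ k
  have hN : algebraMap F K ((OfPair.cubic hφ).N k) = k * shp σ k := (OfPair.cubic hφ).N_map k
  have hsh : (OfPair.cubic hφ).sh k = shp σ k := rfl
  have hl' : algebraMap F K l ≠ 0 := by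
    rw [Ne, map_eq_zero]; exact hl
  have hσl : σ (algebraMap F K l) = algebraMap F K l := φ.commutes l
  have hσ3 : ∀ a, σ (σ (σ a)) = a := hφ.three
  set L := algebraMap F K l with hL
  have hk1 : σ k ≠ 0 := by rw [Ne, map_eq_zero_iff _ σ.injective]; exact hk
  have hk2 : σ (σ k) ≠ 0 := by rw [Ne, map_eq_zero_iff _ σ.injective]; exact hk1
  have hshk : shp σ k ≠ 0 := mul_ne_zero hk1 hk2
  have hr0 : r ≠ 0 := by
    rintro rfl
    rw [mul_zero] at hr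
    exact hshk hr.symm
  have sq_inj : ∀ a b : K, a * a = b * b → a = b := fun a b e => by
    have h2 : (a - b) * (a - b) = 0 := by
      have h3 := hφ.two
      linear_combination e + (b * b - a * b) * h3
    exact sub_eq_zero.1 (mul_self_eq_zero.1 h2)
  have hσr : ∀ a, σ (shp σ a) = σ (σ a) * a := fun a => by unfold shp; rw [map_mul, hσ3]
  -- `shp r = k r`
  have e1 : shp σ r = k * r := by
    apply sq_inj
    have : shp σ r * shp σ r = σ (r * r) * σ (σ (r * r)) := by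
      unfold shp; simp only [map_mul]; ring
    rw [this, hr]
    have h5 : σ (shp σ k) = σ (σ k) * k := hσr k
    have h6 : σ (σ (shp σ k)) = k * σ k := by rw [h5, map_mul, hσ3]
    rw [h6, h5]
    have h7 : k * r * (k * r) = k * k * (r * r) := by ring
    rw [h7, hr]
    unfold shp; ring
  set s := k * r * L with hs
  set u := k * shp σ k * L ^ 2 with hu
  have hs0 : s ≠ 0 := mul_ne_zero (mul_ne_zero hk hr0) hl'
  have hu0 : u ≠ 0 := mul_ne_zero (mul_ne_zero hk hshk) (pow_ne_zero 2 hl')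
  have hσu : σ u = u := by
    rw [hu, map_mul, map_mul, map_pow, hσl, hσr]
    unfold shp; ring
  have hshs : shp σ s = shp σ k * (k * r) * L ^ 2 := by
    have h5 : shp σ s = shp σ k * shp σ r * (σ L * σ (σ L)) := by
      rw [hs]; unfold shp; simp only [map_mul]; ring
    rw [h5, e1, hσl, hσl]; ring
  have hnr : nrm σ s = s * shp σ s := by unfold nrm shp; ring
  refine ⟨s, u, hs0, hu0, hσu, ?_, ?_, ?_, ?_, ?_, ?_⟩
  · rw [← div_eq_mul_inv, div_eq_iff hu0, hs, hu]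
    linear_combination (k ^ 2 * L ^ 2) * hr
  · rw [← div_eq_mul_inv, div_eq_iff hu0, map_mul, hN, hnr, hshs, hs, hu]
    linear_combination (k ^ 2 * shp σ k * L ^ 3) * hr
  · rw [inv_mul_eq_div, div_eq_iff hs0, hsh, hshs, hs]
    ring
  · rw [map_mul, hN, map_pow]
  · rw [hshs, hs, hu]
    field_simp
  · have hn0 : nrm σ s ≠ 0 := by
      rw [hnr, hshs]
      exact mul_ne_zero hs0 (mul_ne_zero (mul_ne_zero hshk (mul_ne_zero hk hr0)) (pow_ne_zero 2 hl'))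
    rw [inv_mul_eq_div, div_eq_iff hn0, hnr, hshs, hs, hu]
    linear_combination (-(k ^ 2 * shp σ k * L ^ 4)) * hr

/-- values of the characters of `hh 1 s * hh 6 u` -/
theorem ch_vals {σ : K ≃+* K} (s u : K) :
    (ch σ 1 (1 - 1) s * ch σ 6 (1 - 6) u = s ^ 2 * u⁻¹) ∧ (ch σ 1 (2 - 1) s * ch σ 6 (2 - 6) u = nrm σ s * u⁻¹) ∧
    (ch σ 1 (3 - 1) s * ch σ 6 (3 - 6) u = s⁻¹ * shp σ s) ∧ (ch σ 1 (4 - 1) s * ch σ 6 (4 - 6) u = u) ∧
    (ch σ 1 (5 - 1) s * ch σ 6 (5 - 6) u = s * (shp σ s)⁻¹ * u) ∧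
    (ch σ 1 (6 - 1) s * ch σ 6 (6 - 6) u = (nrm σ s)⁻¹ * u ^ 2) := by
  refine ⟨rfl, rfl, ?_, ?_, rfl, rfl⟩
  · change s⁻¹ * shp σ s * 1 = _
    rw [mul_one]
  · change 1 * u = u
    rw [one_mul]

/-- the element `h (k, l)` of the torus -/
theorem exists_tor (hφ : CubicPair φ) [Finite K] (h : HexTwo (φ : K ≃+* K) x) {k : K} {l : F} (hk : k ≠ 0)
    (hl : l ≠ 0) : ∃ g ∈ h.H, (∀ a, g * x 1 a * g⁻¹ = x 1 (k * a)) ∧
      (∀ a : F, g * x 2 (algebraMap F K a) * g⁻¹ = x 2 (algebraMap F K (((OfPair.cubic hφ).N k * l) * a))) ∧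
      (∀ a, g * x 3 a * g⁻¹ = x 3 (((OfPair.cubic hφ).sh k * algebraMap F K l) * a)) ∧
      (∀ a : F, g * x 4 (algebraMap F K a) * g⁻¹ = x 4 (algebraMap F K (((OfPair.cubic hφ).N k * l ^ 2) * a))) ∧
      (∀ a, g * x 5 a * g⁻¹ = x 5 ((k * algebraMap F K l) * a)) ∧
      (∀ a : F, g * x 6 (algebraMap F K a) * g⁻¹ = x 6 (algebraMap F K (l * a))) := by
  obtain ⟨s, u, hs, hu, hσu, e1, e2, e3, e4, e5, e6⟩ := exists_param hφ hk hl
  obtain ⟨c1, c2, c3, c4, c5, c6⟩ := ch_vals (σ := (φ : K ≃+* K)) s u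
  have okF : ∀ (j : ZMod 12) (a : F), Ok (φ : K ≃+* K) j (algebraMap F K a) := fun j a => ok_of_fix j (φ.commutes a)
  refine ⟨hh x 1 s * hh x 6 u, ⟨s, u, hs, hu, hσu, rfl⟩, fun a => ?_, fun a => ?_, fun a => ?_, fun a => ?_,
    fun a => ?_, fun a => ?_⟩
  · rw [h.H_act hs hu hσu (HexTwo.ok1 a), c1, e1]
  · rw [h.H_act hs hu hσu (okF 2 a), c2, e2, ← map_mul]
  · rw [h.H_act hs hu hσu (HexTwo.ok3 a), c3, e3]
  · rw [h.H_act hs hu hσu (okF 4 a), c4, map_mul, ← e4]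
  · rw [h.H_act hs hu hσu (HexTwo.ok5 a), c5, e5]
  · rw [h.H_act hs hu hσu (okF 6 a), c6, e6, ← map_mul]

/-! ### `Pos` -/

section pos

variable (hφ : CubicPair φ) [Finite K] (h : HexTwo (φ : K ≃+* K) x) (S : VSys (φ : K ≃+* K) x t V)
  (L : Labels φ x t V h)

open Classical in
/-- the element `h (k, l)` -/
noncomputable def hkl (k : K) (l : F) : Γ :=
  if hh : k ≠ 0 ∧ l ≠ 0 then (exists_tor hφ h hh.1 hh.2).choose else 1

theorem hkl_spec {k : K} {l : F} (hk : k ≠ 0) (hl : l ≠ 0) : hkl hφ h k l ∈ h.H ∧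
      (∀ a, hkl hφ h k l * x 1 a * (hkl hφ h k l)⁻¹ = x 1 (k * a)) ∧
      (∀ a : F, hkl hφ h k l * x 2 (algebraMap F K a) * (hkl hφ h k l)⁻¹ =
        x 2 (algebraMap F K (((OfPair.cubic hφ).N k * l) * a))) ∧
      (∀ a, hkl hφ h k l * x 3 a * (hkl hφ h k l)⁻¹ = x 3 (((OfPair.cubic hφ).sh k * algebraMap F K l) * a)) ∧
      (∀ a : F, hkl hφ h k l * x 4 (algebraMap F K a) * (hkl hφ h k l)⁻¹ =
        x 4 (algebraMap F K (((OfPair.cubic hφ).N k * l ^ 2) * a))) ∧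
      (∀ a, hkl hφ h k l * x 5 a * (hkl hφ h k l)⁻¹ = x 5 ((k * algebraMap F K l) * a)) ∧
      (∀ a : F, hkl hφ h k l * x 6 (algebraMap F K a) * (hkl hφ h k l)⁻¹ = x 6 (algebraMap F K (l * a))) := by
  unfold hkl
  rw [dif_pos ⟨hk, hl⟩]
  exact (exists_tor hφ h hk hl).choose_spec

theorem swap_comm {a b : Γ} (e : ⁅a⁻¹, b⁆ = 1) : b * a = a * b := by
  rw [commutatorElement_eq_one_iff_mul_comm] at e
  calc b * a = a * (a⁻¹ * b) * a := by group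
    _ = a * b := by rw [e]; group

theorem swap_eq {a b c : Γ} (e : ⁅a⁻¹, b⁆ = c) : b * a = a * (c * b) := by
  rw [← e, commutatorElement_def]; group

/-- **the positive part of a grown system** -/
noncomputable def pos : Pos (OfPair.cubic hφ) Γ where
  y1 := L.YS 1
  y2 := L.YL 2
  y3 := L.YS 3
  y4 := L.YL 4
  y5 := L.YS 5
  y6 := L.YL 6
  add1 := L.addS 1
  add2 := L.addL 2
  add3 := L.addS 3
  add4 := L.addL 4
  add5 := L.addS 5
  add6 := L.addL 6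
  r21 u a := (S.c1 1 _ ((L.memS 1 (by decide) _).2 ⟨a, rfl⟩) _ ((L.memL 2 (by decide) _).2 ⟨u, rfl⟩)).symm
  s31 b a := by
    have ha := (L.memS 1 (by decide) _).2 ⟨a, rfl⟩
    have hb := (L.memS 3 (by decide) _).2 ⟨b, rfl⟩
    obtain ⟨s, hs⟩ := (L.memL 2 (by decide) _).1 (S.s2 1 (by decide) _ (inv_mem ha) _ hb)
    exact ⟨s, swap_eq hs.symm⟩
  r41 u a := (S.c3 1 _ ((L.memS 1 (by decide) _).2 ⟨a, rfl⟩) _ ((L.memL 4 (by decide) _).2 ⟨u, rfl⟩)).symm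
  s51 b a := by
    have ha := (L.memS 1 (by decide) _).2 ⟨a, rfl⟩
    have hb := (L.memS 5 (by decide) _).2 ⟨b, rfl⟩
    obtain ⟨p, hp, q, hq, r, hr, e⟩ := mem234 S (S.s4 1 (by decide) _ (inv_mem ha) _ hb)
    obtain ⟨p, rfl⟩ := (L.memL 2 (by decide) _).1 hp
    obtain ⟨q, rfl⟩ := (L.memS 3 (by decide) _).1 hq
    obtain ⟨r, rfl⟩ := (L.memL 4 (by decide) _).1 hr
    refine ⟨p, q, r, ?_⟩
    rw [swap_eq e.symm]
    simp only [mul_assoc]
  s61 b a := by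
    have ha := (L.memS 1 (by decide) _).2 ⟨a, rfl⟩
    have hb := (L.memL 6 (by decide) _).2 ⟨b, rfl⟩
    obtain ⟨p, hp, q, hq, r, hr, d, hd, e⟩ := mem2345 S (S.c5 1 _ (inv_mem ha) _ hb)
    obtain ⟨p, rfl⟩ := (L.memL 2 (by decide) _).1 hp
    obtain ⟨q, rfl⟩ := (L.memS 3 (by decide) _).1 hq
    obtain ⟨r, rfl⟩ := (L.memL 4 (by decide) _).1 hr
    obtain ⟨d, rfl⟩ := (L.memS 5 (by decide) _).1 hd
    refine ⟨p, q, r, d, ?_⟩
    rw [swap_eq e.symm]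
    simp only [mul_assoc]
  r32 b u := (S.c1 2 _ ((L.memL 2 (by decide) _).2 ⟨u, rfl⟩) _ ((L.memS 3 (by decide) _).2 ⟨b, rfl⟩)).symm
  r42 b u := (S.l2 2 (by decide) _ ((L.memL 2 (by decide) _).2 ⟨u, rfl⟩) _ ((L.memL 4 (by decide) _).2 ⟨b, rfl⟩)).symm
  r52 b u := (S.c3 2 _ ((L.memL 2 (by decide) _).2 ⟨u, rfl⟩) _ ((L.memS 5 (by decide) _).2 ⟨b, rfl⟩)).symm
  s62 b a := by
    have ha := (L.memL 2 (by decide) _).2 ⟨a, rfl⟩
    have hb := (L.memL 6 (by decide) _).2 ⟨b, rfl⟩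
    obtain ⟨s, hs⟩ := (L.memL 4 (by decide) _).1 (S.l4 2 (by decide) _ (inv_mem ha) _ hb)
    exact ⟨s, swap_eq hs.symm⟩
  r43 b u := (S.c1 3 _ ((L.memS 3 (by decide) _).2 ⟨u, rfl⟩) _ ((L.memL 4 (by decide) _).2 ⟨b, rfl⟩)).symm
  s53 b a := by
    have ha := (L.memS 3 (by decide) _).2 ⟨a, rfl⟩
    have hb := (L.memS 5 (by decide) _).2 ⟨b, rfl⟩
    obtain ⟨s, hs⟩ := (L.memL 4 (by decide) _).1 (S.s2 3 (by decide) _ (inv_mem ha) _ hb)
    exact ⟨s, swap_eq hs.symm⟩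
  r63 b u := (S.c3 3 _ ((L.memS 3 (by decide) _).2 ⟨u, rfl⟩) _ ((L.memL 6 (by decide) _).2 ⟨b, rfl⟩)).symm
  r54 b u := (S.c1 4 _ ((L.memL 4 (by decide) _).2 ⟨u, rfl⟩) _ ((L.memS 5 (by decide) _).2 ⟨b, rfl⟩)).symm
  r64 b u := (S.l2 4 (by decide) _ ((L.memL 4 (by decide) _).2 ⟨u, rfl⟩) _ ((L.memL 6 (by decide) _).2 ⟨b, rfl⟩)).symm
  r65 b u := (S.c1 5 _ ((L.memS 5 (by decide) _).2 ⟨u, rfl⟩) _ ((L.memL 6 (by decide) _).2 ⟨b, rfl⟩)).symm
  inj a b c d e f a' b' c' d' e' f' H := by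
    obtain ⟨h1, h2, h3, h4, h5, h6⟩ := S.nf _ ((L.memS 1 (by decide) _).2 ⟨a, rfl⟩) _
      ((L.memL 2 (by decide) _).2 ⟨b, rfl⟩) _ ((L.memS 3 (by decide) _).2 ⟨c, rfl⟩) _
      ((L.memL 4 (by decide) _).2 ⟨d, rfl⟩) _ ((L.memS 5 (by decide) _).2 ⟨e, rfl⟩) _
      ((L.memL 6 (by decide) _).2 ⟨f, rfl⟩) _ ((L.memS 1 (by decide) _).2 ⟨a', rfl⟩) _
      ((L.memL 2 (by decide) _).2 ⟨b', rfl⟩) _ ((L.memS 3 (by decide) _).2 ⟨c', rfl⟩) _
      ((L.memL 4 (by decide) _).2 ⟨d', rfl⟩) _ ((L.memS 5 (by decide) _).2 ⟨e', rfl⟩) _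
      ((L.memL 6 (by decide) _).2 ⟨f', rfl⟩) (by simpa only [mul_assoc] using H)
    exact ⟨L.injS 1 (by decide) _ _ h1, L.injL 2 (by decide) _ _ h2, L.injS 3 (by decide) _ _ h3,
      L.injL 4 (by decide) _ _ h4, L.injS 5 (by decide) _ _ h5, L.injL 6 (by decide) _ _ h6⟩
  rel := by
    have h1 := OfHexRel.posRel_of_hexRel hφ h.rel
    have e1 : (fun a => L.YS 1 (a, 0)) = x 1 := funext (L.smallS 1 (by decide))
    have e2 : (fun a => L.YL 2 (a, 0)) = fun a => x 2 (algebraMap F K a) := funext (L.smallL 2 (by decide))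
    have e3 : (fun a => L.YS 3 (a, 0)) = x 3 := funext (L.smallS 3 (by decide))
    have e4 : (fun a => L.YL 4 (a, 0)) = fun a => x 4 (algebraMap F K a) := funext (L.smallL 4 (by decide))
    have e5 : (fun a => L.YS 5 (a, 0)) = x 5 := funext (L.smallS 5 (by decide))
    have e6 : (fun a => L.YL 6 (a, 0)) = fun a => x 6 (algebraMap F K a) := funext (L.smallL 6 (by decide))
    rw [e1, e2, e3, e4, e5, e6]
    exact h1
  t := t
  t1 := L.tS 1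
  t2 := L.tL 2
  t3 := L.tS 3
  t4 := L.tL 4
  t5 := L.tS 5
  t6 := L.tL 6
  h := hkl hφ h
  h1 k l hk hl := L.hS _ (hkl_spec hφ h hk hl).1 1 (by decide) _ (hkl_spec hφ h hk hl).2.1
  h2 k l hk hl := L.hL _ (hkl_spec hφ h hk hl).1 2 (by decide) _ (hkl_spec hφ h hk hl).2.2.1
  h3 k l hk hl := L.hS _ (hkl_spec hφ h hk hl).1 3 (by decide) _ (hkl_spec hφ h hk hl).2.2.2.1
  h4 k l hk hl := L.hL _ (hkl_spec hφ h hk hl).1 4 (by decide) _ (hkl_spec hφ h hk hl).2.2.2.2.1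
  h5 k l hk hl := L.hS _ (hkl_spec hφ h hk hl).1 5 (by decide) _ (hkl_spec hφ h hk hl).2.2.2.2.2.1
  h6 k l hk hl := L.hL _ (hkl_spec hφ h hk hl).1 6 (by decide) _ (hkl_spec hφ h hk hl).2.2.2.2.2.2
  na := nn x 1
  nb := nn x 6
  na_sq := h.nn_sq 1
  nb_sq := h.nn_sq 6
  na2 v := by
    have := L.nL 1 2 (by decide) v
    rwa [h.nn_inv] at this
  na3 v := by
    have := L.nS 1 3 (by decide) v
    rwa [h.nn_inv] at this
  na4 v := by
    have := L.nL 1 4 (by decide) v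
    rwa [h.nn_inv] at this
  nb1 v := by
    have := L.nS 6 1 (by decide) v
    rwa [h.nn_inv] at this
  nb2 v := by
    have := L.nL 6 2 (by decide) v
    rwa [h.nn_inv] at this
  nb3 v := by
    have := L.nS 6 3 (by decide) v
    rwa [h.nn_inv] at this
  rank1 := by
    have e1 : L.YL 6 (1, 0) = x 6 1 := by rw [L.smallL 6 (by decide), map_one]
    have e2 : nn x 6 * x 6 1 * nn x 6 = x (6 + 6) 1 := h.refl' 6 6 (ok_one _ 6)
    rw [e1, e2]
    rfl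

end pos

end Cfsg.Agent.HexRing.Lab4
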